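import Cfsg.Agent.Omega.NoFF.Lines
import Cfsg.Agent.Lib.ProductSet

/-!
# THEOREM J* (helper560 #12949, helper765 #13136, helper663 #13190)

In the geometry `Lines.Geo` of case NO-3' let `N` be a normal subgroup of `C` normalising all lines on the point `Z`.
Then `J(S)` is not contained in `N`.

* `core` : a family `Fam` of subgroups such that `A ≤ N_x` if `Z_x ≤ A ∈ Fam`, closed under `A ↦ V_l C_A(V_l)`:
  all `W_x` in the component of `Z` commute;
* `thmJ` : there is `A ≤ S`, `A ≰ N`, elementary abelian of maximal order in `G`.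
-/

set_option autoImplicit false

namespace Cfsg.Agent.Omega.NoFF.ThmJFam

open Subgroup Cfsg.Agent.Omega.NoFF.Basic Cfsg.Agent.Omega.NoFF.Lines
open scoped Pointwise

variable {G : Type*} [Group G] {Z C N : Subgroup G} {F : Set (Subgroup G)}

/-! ### groups of exponent 2 -/

/-- of exponent 2 -/
def Ex (A : Subgroup G) : Prop := ∀ a ∈ A, a ^ 2 = 1

theorem Ex.comm {A : Subgroup G} (h : Ex A) : A ≤ centralizer (A : Set G) := by
  intro x hx
  rw [mem_centralizer_iff]
  intro y hy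
  have hi : ∀ z ∈ A, z⁻¹ = z := fun z hz => inv_eq_of_mul_eq_one_left (by rw [← pow_two]; exact h z hz)
  have h1 := hi _ (mul_mem hx hy)
  rw [mul_inv_rev, hi x hx, hi y hy] at h1
  exact h1

theorem Ex.mono {A B : Subgroup G} (h : Ex A) (hB : B ≤ A) : Ex B := fun b hb => h b (hB hb)

theorem Ex.conj {A : Subgroup G} (h : Ex A) (g : G) : Ex (MulAut.conj g • A) := Geo.conj_sq h g

theorem sup_comm_of {A B : Subgroup G} (hA : A ≤ centralizer (A : Set G)) (hB : B ≤ centralizer (B : Set G))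
    (h : A ≤ centralizer (B : Set G)) : A ⊔ B ≤ centralizer ((A ⊔ B : Subgroup G) : Set G) :=
  sup_le (comm_symm (sup_le hA (comm_symm h))) (comm_symm (sup_le h hB))

theorem Ex.sup {A B : Subgroup G} (hA : Ex A) (hB : Ex B) (h : A ≤ centralizer (B : Set G)) : Ex (A ⊔ B) := by
  refine Geo.sq_of_comm (sup_comm_of hA.comm hB.comm h) (B := fun b : Bool => cond b A B) ?_
    (by rw [sup_eq_iSup]) ?_
  · rintro (_ | _)
    · exact le_sup_right
    · exact le_sup_left
  · rintro (_ | _)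
    · exact hB
    · exact hA

theorem Ex.isPGroup {A : Subgroup G} (h : Ex A) : IsPGroup 2 A := fun a =>
  ⟨1, Subtype.ext (by simpa using h a a.2)⟩

theorem card_sup_inf {A B : Subgroup G} [Finite G] (h : A ≤ centralizer (B : Set G)) :
    Nat.card (A ⊔ B : Subgroup G) * Nat.card (A ⊓ B : Subgroup G) = Nat.card A * Nat.card B := by
  rw [← Cfsg.Agent.Lib.ProductSet.card_mul_card_inf A B,
    ← Subgroup.coe_mul_of_left_le_normalizer_right A B (h.trans (centralizer_le_normalizer _))]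
  rfl

theorem card_conj (g : G) (A : Subgroup G) : Nat.card (MulAut.conj g • A : Subgroup G) = Nat.card A :=
  Nat.card_congr (Subgroup.equivSMul (MulAut.conj g) A).symm.toEquiv

theorem conj_inf (g : G) (A B : Subgroup G) :
    MulAut.conj g • (A ⊓ B) = MulAut.conj g • A ⊓ MulAut.conj g • B := Subgroup.smul_inf _ _ _

theorem conj_cent (g : G) (B : Subgroup G) :
    MulAut.conj g • centralizer (B : Set G) = centralizer ((MulAut.conj g • B : Subgroup G) : Set G) := by
  apply le_antisymm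
  · exact conj_le_centralizer le_rfl
  · have h1 := conj_le_centralizer (g := g⁻¹) (le_refl (centralizer ((MulAut.conj g • B : Subgroup G) : Set G)))
    rw [conj_conj, inv_mul_cancel, map_one, one_smul] at h1
    have h2 := conj_le_iff (g := g) |>.2 h1
    rwa [conj_conj, mul_inv_cancel, map_one, one_smul] at h2

/-! ### the core -/

section core

variable {S : Subgroup G} {Fam : Subgroup G → Prop}

/-- **(1)** -/
theorem one (D : Geo S Z C F) [Finite G]
    (f1 : ∀ x A, Fam A → MulAut.conj x • Z ≤ A → ∀ P ∈ F, ∀ c ∈ C,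
      Fam (MulAut.conj (x * c) • V Z P ⊔ A ⊓ centralizer ((MulAut.conj (x * c) • V Z P : Subgroup G) : Set G)))
    {x : G} {A : Subgroup G} (hA : Fam A) (hZA : MulAut.conj x • Z ≤ A) :
    ∃ A₁, Fam A₁ ∧ MulAut.conj x • W Z C F ≤ A₁ ∧
      A ⊓ centralizer ((MulAut.conj x • W Z C F : Subgroup G) : Set G) ≤ A₁ := by
  classical
  have hZx : ∀ P ∈ F, ∀ c ∈ C, MulAut.conj x • Z ≤ MulAut.conj (x * c) • V Z P := by
    intro P hP c hc
    have h1 := conj_Z_le (Z := Z) (P := P) (g := x * c) P.one_mem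
    rwa [mul_one, ← conj_conj, conj_eq (D.CZ hc)] at h1
  have key : ∀ s : Finset (G × Subgroup G), (∀ l ∈ s, l.1 ∈ C ∧ l.2 ∈ F) →
      ∃ A₁, Fam A₁ ∧ MulAut.conj x • Z ≤ A₁ ∧ (∀ l ∈ s, MulAut.conj (x * l.1) • V Z l.2 ≤ A₁) ∧
        A ⊓ centralizer ((MulAut.conj x • W Z C F : Subgroup G) : Set G) ≤ A₁ := by
    intro s
    induction s using Finset.induction_on with
    | empty => exact fun _ => ⟨A, hA, hZA, by simp, inf_le_left⟩
    | insert l s _ ih =>
      intro hs
      obtain ⟨A₁, h1, h2, h3, h4⟩ := ih fun l' hl' => hs l' (Finset.mem_insert_of_mem hl')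
      obtain ⟨hlC, hlF⟩ := hs l (Finset.mem_insert_self _ _)
      have hle := conj_line_le (Z := Z) hlF x hlC
      refine ⟨_, f1 x A₁ h1 h2 l.2 hlF l.1 hlC, (hZx _ hlF _ hlC).trans le_sup_left, ?_, ?_⟩
      · intro l' hl'
        rw [Finset.mem_insert] at hl'
        rcases hl' with rfl | hl'
        · exact le_sup_left
        · obtain ⟨hC', hF'⟩ := hs l' (Finset.mem_insert_of_mem hl')
          refine le_trans (le_inf (h3 l' hl') ?_) le_sup_right
          exact comm_mono (D.W_comm' x) (conj_line_le hF' x hC') hle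
      · refine le_trans (le_inf h4 ?_) le_sup_right
        exact inf_le_right.trans (centralizer_le hle)
  have hfin : {l : G × Subgroup G | l.1 ∈ C ∧ l.2 ∈ F}.Finite := Set.toFinite _
  obtain ⟨A₁, h1, -, h3, h4⟩ := key hfin.toFinset fun l hl => by
    rw [Set.Finite.mem_toFinset] at hl
    exact hl
  refine ⟨A₁, h1, conj_W_le fun P hP c hc => h3 (c, P) ?_, h4⟩
  rw [Set.Finite.mem_toFinset]
  exact ⟨hc, hP⟩

end core

/-- **THEOREM J*, general form**: all `W_x` commute. -/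
theorem core [Finite G] {p : ℕ} [Fact p.Prime] {S : Sylow p G} (D : Geo (S : Subgroup G) Z C F)
    {Fam : Subgroup G → Prop} (hl : ∀ P ∈ F, ∀ c ∈ C, N ≤ normalizer ((MulAut.conj c • V Z P : Subgroup G) : Set G))
    (f0 : ∀ (x : G) (A : Subgroup G), Fam A → MulAut.conj x • Z ≤ A → A ≤ MulAut.conj x • N)
    (f1 : ∀ (x : G) (A : Subgroup G), Fam A → MulAut.conj x • Z ≤ A → ∀ P ∈ F, ∀ c ∈ C,
      Fam (MulAut.conj (x * c) • V Z P ⊔ A ⊓ centralizer ((MulAut.conj (x * c) • V Z P : Subgroup G) : Set G)))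
    (f2 : ∀ x : G, ∃ A, Fam A ∧ MulAut.conj x • Z ≤ A) (k : ℕ) :
    ∀ x y, Path C F k x y → Com Z C F x y ∧
      ∃ A, Fam A ∧ MulAut.conj x • W Z C F ≤ A ∧ MulAut.conj y • W Z C F ≤ A := by
  -- `N_x` normalises the lines on `x`
  have hN : ∀ x, ∀ P ∈ F, ∀ c ∈ C,
      MulAut.conj x • N ≤ normalizer ((MulAut.conj (x * c) • V Z P : Subgroup G) : Set G) := by
    intro x P hP c hc
    rw [← conj_conj, Main.normalizer_conj]
    exact conj_le_iff.2 (hl P hP c hc)
  -- the point before the end of a path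
  have hlast : ∀ k x y, Path C F (k + 1) x y → ∃ u, Path C F k x u ∧
      MulAut.conj y • Z ≤ MulAut.conj u • W Z C F := by
    intro k x y h
    rcases h with _ | @⟨_, _, u, p, c, P, hu, hP, hp, hc⟩
    refine ⟨u, hu, ?_⟩
    rw [← conj_conj (u * p) c, conj_eq (D.CZ hc)]
    exact (conj_Z_le hp).trans (conj_line_le' hP u)
  induction k with
  | zero =>
    intro x y h
    rcases h with @⟨_, c, hc⟩ | _
    obtain ⟨A, hA, hZA⟩ := f2 x
    obtain ⟨A₁, h1, h2, -⟩ := one D f1 hA hZA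
    have h3 : Com Z C F x (x * c) := by
      unfold Com
      rw [W_mul hc]
      exact D.W_comm' x
    refine ⟨h3, A₁, h1, h2, ?_⟩
    rwa [W_mul hc]
  | succ k ih =>
    intro x y h
    obtain ⟨u, hu, hyu⟩ := hlast k x y h
    obtain ⟨v, hv, hxv⟩ := hlast k y x h.symm
    obtain ⟨-, A', hA', hxA', huA'⟩ := ih x u hu
    obtain ⟨-, A, hA, hyA, hvA⟩ := ih y v hv
    have h1 := f0 x A hA (hxv.trans hvA)
    have h2 := f0 y A' hA' (hyu.trans huA')
    have hcom : Com Z C F x y := by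
      by_contra hcon
      obtain ⟨P, hP, P', hP', c, hc, d, hd, hne⟩ := Geo.exists_lines hcon
      apply hne
      refine noff_lines D.toSys hP hP' ?_ ?_
      · exact ((conj_line_le hP x hc).trans (hxA'.trans h2)).trans (hN y P' hP' d hd)
      · exact ((conj_line_le hP' y hd).trans (hyA.trans h1)).trans (hN x P hP c hc)
    obtain ⟨A₁, h3, h4, h5⟩ := one D f1 hA (hxv.trans hvA)
    exact ⟨hcom, A₁, h3, h4, (le_inf hyA hcom.symm).trans h5⟩

/-- elementary abelian 2-subgroups of `G` of maximal order -/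
def Mx (A : Subgroup G) : Prop := Ex A ∧ ∀ B : Subgroup G, Ex B → Nat.card B ≤ Nat.card A

theorem Mx.conj {A : Subgroup G} (h : Mx A) (g : G) : Mx (MulAut.conj g • A) :=
  ⟨h.1.conj g, fun B hB => by rw [card_conj]; exact h.2 B hB⟩

theorem exists_mx [Finite G] : ∃ A : Subgroup G, Mx A := by
  obtain ⟨A, hA, hmax⟩ := Set.exists_max_image {A : Subgroup G | Ex A} (fun A => Nat.card A) (Set.toFinite _)
    ⟨⊥, fun a ha => by rw [mem_bot.1 ha, one_pow]⟩
  exact ⟨A, hA, hmax⟩

/-- an elementary abelian 2-subgroup centralising `A` lies in `A` -/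
theorem Mx.le_of_comm [Finite G] {A B : Subgroup G} (h : Mx A) (hB : Ex B) (hc : B ≤ centralizer (A : Set G)) :
    B ≤ A := by
  have h1 := h.2 _ (h.1.sup hB (comm_symm hc))
  have h2 : A = A ⊔ B := Subgroup.eq_of_le_of_card_ge le_sup_left h1
  rw [h2]
  exact le_sup_right

section

variable [Finite G] {S : Sylow 2 G}

/-- a maximal elementary abelian subgroup lies in a conjugate of `S` and contains the conjugate of `Z` -/
theorem exists_mx_over (D : Geo (S : Subgroup G) Z C F) (x : G) : ∃ A : Subgroup G, Mx A ∧ MulAut.conj x • Z ≤ A := by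
  obtain ⟨A, hA⟩ := exists_mx (G := G)
  obtain ⟨m, -, hm⟩ := Main.exists_le_conj S (M := ⊤) le_top hA.1.isPGroup le_top
  have h1 : MulAut.conj m⁻¹ • A ≤ S := by
    have := conj_le_iff (g := m⁻¹) |>.2 hm
    rwa [conj_conj, inv_mul_cancel, map_one, one_smul] at this
  have h2 := hA.conj m⁻¹
  have h3 : Z ≤ MulAut.conj m⁻¹ • A := h2.le_of_comm D.Zsq (comm_symm (h1.trans D.cent))
  exact ⟨MulAut.conj x • (MulAut.conj m⁻¹ • A), h2.conj x, conj_le_iff.2 h3⟩

/-- (0) at the point `Z` -/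
theorem le_N (D : Geo (S : Subgroup G) Z C F) (hCN : C ≤ normalizer (N : Set G))
    (hJ : ∀ A : Subgroup G, Mx A → A ≤ (S : Subgroup G) → A ≤ N) {A : Subgroup G} (hA : Mx A) (hZ : Z ≤ A) : A ≤ N := by
  have hAC : A ≤ C := (comm_mono hA.1.comm le_rfl hZ).trans D.cen
  obtain ⟨c, hc, h1⟩ := Main.exists_le_conj S (D.cent.trans D.cen) hA.1.isPGroup hAC
  have h2 : MulAut.conj c⁻¹ • A ≤ S := by
    have := conj_le_iff (g := c⁻¹) |>.2 h1
    rwa [conj_conj, inv_mul_cancel, map_one, one_smul] at this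
  have h3 := hJ _ (hA.conj c⁻¹) h2
  have h4 := conj_le_iff (g := c) |>.2 h3
  rwa [conj_conj, mul_inv_cancel, map_one, one_smul, conj_eq (hCN hc)] at h4

/-- (0) -/
theorem le_N' (D : Geo (S : Subgroup G) Z C F) (hCN : C ≤ normalizer (N : Set G))
    (hJ : ∀ A : Subgroup G, Mx A → A ≤ (S : Subgroup G) → A ≤ N) (x : G) {A : Subgroup G} (hA : Mx A)
    (hZ : MulAut.conj x • Z ≤ A) : A ≤ MulAut.conj x • N := by
  have h1 : Z ≤ MulAut.conj x⁻¹ • A := by
    have := conj_le_iff (g := x⁻¹) |>.2 hZ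
    rwa [conj_conj, inv_mul_cancel, map_one, one_smul] at this
  have h2 := conj_le_iff (g := x) |>.2 (le_N D hCN hJ (hA.conj x⁻¹) h1)
  rwa [conj_conj, mul_inv_cancel, map_one, one_smul] at h2

/-- `A ↦ V C_A(V)` -/
theorem mx_swap (D : Geo (S : Subgroup G) Z C F) (hCN : C ≤ normalizer (N : Set G)) {P : Subgroup G} (hP : P ∈ F)
    (hNl : N ≤ normalizer (V Z P : Set G))
    (bhs : ∀ A : Subgroup G, A ≤ (S : Subgroup G) → Ex A →
      Nat.card A * Nat.card (V Z P ⊓ centralizer (A : Set G) : Subgroup G) ≤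
        Nat.card (V Z P) * Nat.card (A ⊓ centralizer (V Z P : Set G) : Subgroup G))
    {A : Subgroup G} (hA : Mx A) (hAN : A ≤ N) : Mx (V Z P ⊔ A ⊓ centralizer (V Z P : Set G)) := by
  have hSC : (S : Subgroup G) ≤ C := D.cent.trans D.cen
  obtain ⟨k, hk, hAk⟩ : ∃ k ∈ N, A ≤ MulAut.conj k • (S : Subgroup G) := by
    obtain ⟨m, hm, h1⟩ := Main.exists_le_conj S (M := (S : Subgroup G) ⊔ N) le_sup_left hA.1.isPGroup
      (hAN.trans le_sup_right)
    have h2 : m ∈ ((S : Subgroup G) : Set G) * (N : Set G) := by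
      rw [← Subgroup.coe_mul_of_left_le_normalizer_right _ _ (hSC.trans hCN)]
      exact hm
    obtain ⟨s, hs, n, hn, rfl⟩ := Set.mem_mul.1 h2
    have h3 : s * n * s⁻¹ ∈ N := (mem_normalizer_iff.1 (hCN (hSC hs)) n).1 hn
    refine ⟨_, h3, ?_⟩
    have h4 : MulAut.conj (s * n) • (S : Subgroup G) = MulAut.conj (s * n * s⁻¹) • (S : Subgroup G) := by
      rw [← conj_conj (s * n) s⁻¹, conj_self (inv_mem hs)]
    rwa [← h4]
  set B := MulAut.conj k⁻¹ • A with hB
  have hBS : B ≤ S := by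
    have := conj_le_iff (g := k⁻¹) |>.2 hAk
    rwa [conj_conj, inv_mul_cancel, map_one, one_smul] at this
  have h1 := bhs B hBS (hA.1.conj k⁻¹)
  have hV : MulAut.conj k⁻¹ • V Z P = V Z P := conj_eq (hNl (inv_mem hk))
  have e1 : Nat.card (V Z P ⊓ centralizer (B : Set G) : Subgroup G) =
      Nat.card (V Z P ⊓ centralizer (A : Set G) : Subgroup G) := by
    rw [← card_conj k⁻¹ (V Z P ⊓ centralizer (A : Set G)), conj_inf, conj_cent, hV]
  have e2 : Nat.card (B ⊓ centralizer (V Z P : Set G) : Subgroup G) =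
      Nat.card (A ⊓ centralizer (V Z P : Set G) : Subgroup G) := by
    rw [← card_conj k⁻¹ (A ⊓ centralizer (V Z P : Set G)), conj_inf, conj_cent, hV]
  have e3 : Nat.card B = Nat.card A := card_conj _ _
  rw [e1, e2, e3] at h1
  have hE : Ex (V Z P ⊔ A ⊓ centralizer (V Z P : Set G)) :=
    Ex.sup (D.V_sq hP) (hA.1.mono inf_le_left) (comm_symm inf_le_right)
  refine ⟨hE, fun B' hB' => (hA.2 B' hB').trans ?_⟩
  have h2 := card_sup_inf (A := V Z P) (B := A ⊓ centralizer (V Z P : Set G)) (comm_symm inf_le_right)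
  have h3 : Nat.card (V Z P ⊓ (A ⊓ centralizer (V Z P : Set G)) : Subgroup G) ≤
      Nat.card (V Z P ⊓ centralizer (A : Set G) : Subgroup G) :=
    Subgroup.card_le_of_le (inf_le_inf le_rfl (inf_le_left.trans hA.1.comm))
  rw [← h2] at h1
  have h4 : 0 < Nat.card (V Z P ⊓ (A ⊓ centralizer (V Z P : Set G)) : Subgroup G) := Nat.card_pos
  exact Nat.le_of_mul_le_mul_right ((Nat.mul_le_mul_left _ h3).trans h1) h4

/-- **THEOREM J***: `J(S)` is not contained in a normal subgroup `N` of `C` normalising all lines on `Z`. -/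
theorem thmJ (D : Geo (S : Subgroup G) Z C F) (hF : F.Nonempty) (hZ : Z ≠ ⊥)
    (hloc : ∀ U : Subgroup G, IsPGroup 2 U → (∀ P ∈ F, P ≤ normalizer (U : Set G)) →
      C ≤ normalizer (U : Set G) → U = ⊥)
    (hCN : C ≤ normalizer (N : Set G)) (hNl : ∀ P ∈ F, N ≤ normalizer (V Z P : Set G))
    (bhs : ∀ P ∈ F, ∀ A : Subgroup G, A ≤ (S : Subgroup G) → Ex A →
      Nat.card A * Nat.card (V Z P ⊓ centralizer (A : Set G) : Subgroup G) ≤
        Nat.card (V Z P) * Nat.card (A ⊓ centralizer (V Z P : Set G) : Subgroup G)) :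
    ∃ A : Subgroup G, Mx A ∧ A ≤ (S : Subgroup G) ∧ ¬ A ≤ N := by
  by_contra hcon
  push Not at hcon
  have f0 : ∀ (x : G) (A : Subgroup G), Mx A → MulAut.conj x • Z ≤ A → A ≤ MulAut.conj x • N :=
    fun x A hA hZA => le_N' D hCN hcon x hA hZA
  have hl : ∀ P ∈ F, ∀ c ∈ C, N ≤ normalizer ((MulAut.conj c • V Z P : Subgroup G) : Set G) := by
    intro P hP c hc
    rw [Main.normalizer_conj, ← conj_eq (hCN hc)]
    exact conj_le_iff.2 (hNl P hP)
  have f1 : ∀ (x : G) (A : Subgroup G), Mx A → MulAut.conj x • Z ≤ A → ∀ P ∈ F, ∀ c ∈ C,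
      Mx (MulAut.conj (x * c) • V Z P ⊔ A ⊓ centralizer ((MulAut.conj (x * c) • V Z P : Subgroup G) : Set G)) := by
    intro x A hA hZA P hP c hc
    set B := MulAut.conj (x * c)⁻¹ • A with hB
    have hZB : Z ≤ B := by
      have h1 : MulAut.conj (x * c) • Z ≤ A := by rwa [← conj_conj, conj_eq (D.CZ hc)]
      have := conj_le_iff (g := (x * c)⁻¹) |>.2 h1
      rwa [conj_conj, inv_mul_cancel, map_one, one_smul] at this
    have h1 := (mx_swap D hCN hP (hNl P hP) (bhs P hP) (hA.conj (x * c)⁻¹)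
      (le_N D hCN hcon (hA.conj (x * c)⁻¹) hZB)).conj (x * c)
    rwa [Subgroup.smul_sup, conj_inf, conj_cent, conj_conj, mul_inv_cancel, map_one, one_smul] at h1
  obtain ⟨U, hU2, -, hU, hU1, hU3⟩ := D.exists_local hF hZ fun k x y h =>
    (core D hl f0 f1 (exists_mx_over D) k x y h).1
  exact hU (hloc U (fun u => ⟨1, Subtype.ext (by simpa using hU2 u u.2)⟩) hU1 hU3)

end

end Cfsg.Agent.Omega.NoFF.ThmJFam
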