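import Cfsg.Agent.Omega.NoFF.Main

/-!
# Case NOFF, all lines in `O₂(C)`: the geometry of points and lines (NO-3', #11758, #11889)

Abstract form. `Z` is the central subgroup of `S`, `F` the set of parabolics moving `Z`, `C` a subgroup
with `C_G(Z) ≤ C ≤ N_G(Z)`. Points are the cosets `g C` (the subgroup `Z^g`), lines the `V_P^g`, `P ∈ F`.
`W = ⟨V_P^c : P ∈ F, c ∈ C⟩` is generated by the lines on the point `Z`.

* `Geo` : the hypotheses; `Geo.W_comm` : `W` is abelian, `Geo.W_sq` : of exponent 2;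
* `Path C F n x y` : the points `x`, `y` are joined by a path of length `n`;
* `Crit n x y` : critical pair: `[W_x, W_y] ≠ 1`, `n` minimal; `Geo.exists_crit` : there is one if
  no nontrivial 2-subgroup is normalised by `C` and all `P ∈ F`;
* `Crit.last`, `Crit.symm`, `Crit.le_point`, `Crit.le_normalizer`, `Crit.commutator_le` : the
  properties of a critical pair;
* `Geo.noff_lines` : two lines which normalise each other commute.
-/

set_option autoImplicit false

namespace Cfsg.Agent.Omega.NoFF.Lines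

open Subgroup Cfsg.Agent.Omega.NoFF.Basic
open scoped Pointwise

variable {G : Type*} [Group G] {S Z C : Subgroup G} {F : Set (Subgroup G)}

/-- `⟨V_P^c : P ∈ F, c ∈ C⟩`, generated by the lines on the point `Z`. -/
def W (Z C : Subgroup G) (F : Set (Subgroup G)) : Subgroup G :=
  ⨆ c : C, ⨆ P ∈ F, MulAut.conj (c : G) • V Z P

/-- The hypotheses of case NO-3'. -/
structure Geo (S Z C : Subgroup G) (F : Set (Subgroup G)) : Prop extends Sys S Z F where
  CZ : C ≤ normalizer (Z : Set G)
  cen : centralizer (Z : Set G) ≤ C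
  low : ∀ P ∈ F, ∀ c ∈ C, V Z P ≤ MulAut.conj c • S
  Zsq : ∀ z ∈ Z, z ^ 2 = 1

/-! ### Paths -/

/-- `Path C F n x y`: the points `x C`, `y C` are joined by a path of length `n`. -/
inductive Path (C : Subgroup G) (F : Set (Subgroup G)) : ℕ → G → G → Prop
  | zero (g : G) {c : G} (hc : c ∈ C) : Path C F 0 g (g * c)
  | step {k : ℕ} {g h p c : G} {P : Subgroup G} (hg : Path C F k g h) (hP : P ∈ F) (hp : p ∈ P)
      (hc : c ∈ C) : Path C F (k + 1) g (h * p * c)

namespace Path

theorem refl (g : G) : Path C F 0 g g := by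
  have := zero (F := F) g C.one_mem
  rwa [mul_one] at this

theorem mul_left {k : ℕ} {g h : G} (x : G) (H : Path C F k g h) : Path C F k (x * g) (x * h) := by
  induction H with
  | zero g hc => rw [← mul_assoc]; exact zero _ hc
  | step _ hP hp hc ih =>
    rw [← mul_assoc, ← mul_assoc]; exact ih.step hP hp hc

theorem mul_right {k : ℕ} {g h c : G} (H : Path C F k g h) (hc : c ∈ C) : Path C F k g (h * c) := by
  cases H with
  | zero g hc' => rw [mul_assoc]; exact zero _ (C.mul_mem hc' hc)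
  | step hg hP hp hc' => rw [mul_assoc]; exact hg.step hP hp (C.mul_mem hc' hc)

theorem trans {k l : ℕ} {a b c : G} (H : Path C F k a b) (H' : Path C F l b c) :
    Path C F (k + l) a c := by
  induction H' with
  | zero b hc => exact H.mul_right hc
  | step _ hP hp hc ih => exact (ih H).step hP hp hc

theorem one {P : Subgroup G} (hP : P ∈ F) {g p : G} (hp : p ∈ P) : Path C F 1 g (g * p) := by
  have := (refl (C := C) (F := F) g).step hP hp C.one_mem
  rwa [mul_one] at this

theorem symm {k : ℕ} {a b : G} (H : Path C F k a b) : Path C F k b a := by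
  induction H with
  | @zero g c hc =>
    have := zero (C := C) (F := F) (g * c) (C.inv_mem hc)
    rwa [mul_inv_cancel_right] at this
  | @step k g h p c P _ hP hp hc ih =>
    have h1 : Path C F 0 (h * p * c) (h * p) := by
      have := zero (F := F) (h * p * c) (C.inv_mem hc)
      rwa [mul_inv_cancel_right] at this
    have h2 : Path C F 1 (h * p) h := by
      have := one (C := C) hP (g := h * p) (P.inv_mem hp)
      rwa [mul_inv_cancel_right] at this
    have h3 := (h1.trans h2).trans ih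
    rwa [zero_add, add_comm] at h3

theorem mul_left_iff {k : ℕ} {g h : G} (x : G) : Path C F k (x * g) (x * h) ↔ Path C F k g h :=
  ⟨fun H => by
    have := H.mul_left x⁻¹
    rwa [inv_mul_cancel_left, inv_mul_cancel_left] at this, mul_left x⟩

end Path

/-- `W_x`, `W_y` commute. -/
def Com (Z C : Subgroup G) (F : Set (Subgroup G)) (x y : G) : Prop :=
  MulAut.conj x • W Z C F ≤ centralizer ((MulAut.conj y • W Z C F : Subgroup G) : Set G)

/-- Critical pair: `[W_x, W_y] ≠ 1`, and all pairs of smaller distance commute. -/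
structure Crit (Z C : Subgroup G) (F : Set (Subgroup G)) (n : ℕ) (x y : G) : Prop where
  path : Path C F n x y
  ne : ¬ Com Z C F x y
  min : ∀ k < n, ∀ a b, Path C F k a b → Com Z C F a b

theorem Com.symm {x y : G} (h : Com Z C F x y) : Com Z C F y x := comm_symm h

theorem conj_eq {B : Subgroup G} {g : G} (hg : g ∈ normalizer (B : Set G)) : MulAut.conj g • B = B :=
  Main.conj_eq_of_mem_normalizer hg

theorem line_le {P : Subgroup G} (hP : P ∈ F) {c : G} (hc : c ∈ C) :
    MulAut.conj c • V Z P ≤ W Z C F :=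
  le_trans (le_iSup₂_of_le (f := fun (P : Subgroup G) (_ : P ∈ F) => MulAut.conj c • V Z P) P hP le_rfl)
    (le_iSup (fun c : C => ⨆ P ∈ F, MulAut.conj (c : G) • V Z P) ⟨c, hc⟩)

theorem W_le {A : Subgroup G} (h : ∀ P ∈ F, ∀ c ∈ C, MulAut.conj c • V Z P ≤ A) : W Z C F ≤ A :=
  iSup_le fun c => iSup₂_le fun P hP => h P hP c c.2

theorem conj_line_le {P : Subgroup G} (hP : P ∈ F) (g : G) {c : G} (hc : c ∈ C) :
    MulAut.conj (g * c) • V Z P ≤ MulAut.conj g • W Z C F := by
  rw [← conj_conj]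
  exact conj_le_iff.2 (line_le hP hc)

theorem conj_line_le' {P : Subgroup G} (hP : P ∈ F) (g : G) :
    MulAut.conj g • V Z P ≤ MulAut.conj g • W Z C F := by
  have := conj_line_le (Z := Z) hP g C.one_mem
  rwa [mul_one] at this

theorem conj_W_le {g : G} {A : Subgroup G} (h : ∀ P ∈ F, ∀ c ∈ C, MulAut.conj (g * c) • V Z P ≤ A) :
    MulAut.conj g • W Z C F ≤ A := by
  rw [Subgroup.pointwise_smul_subset_iff]
  refine W_le fun P hP c hc => ?_
  rw [← Subgroup.pointwise_smul_subset_iff, conj_conj]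
  exact h P hP c hc

theorem W_conj {c : G} (hc : c ∈ C) : MulAut.conj c • W Z C F = W Z C F := by
  apply le_antisymm
  · exact conj_W_le fun P hP d hd => line_le hP (C.mul_mem hc hd)
  · refine W_le fun P hP d hd => ?_
    have := conj_line_le (Z := Z) hP c (C.mul_mem (C.inv_mem hc) hd)
    rwa [mul_inv_cancel_left] at this

theorem W_mul {g c : G} (hc : c ∈ C) : MulAut.conj (g * c) • W Z C F = MulAut.conj g • W Z C F := by
  rw [← conj_conj, W_conj hc]

theorem C_le_normalizer_W : C ≤ normalizer (W Z C F : Set G) := by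
  intro c hc
  rw [mem_normalizer_iff]
  intro y
  constructor
  · intro hy
    rw [← W_conj hc, mem_conj]
    simpa [mul_assoc] using hy
  · intro hy
    rw [← W_conj hc, mem_conj] at hy
    simpa [mul_assoc] using hy

theorem com_mul_left {g x y : G} : Com Z C F (g * x) (g * y) ↔ Com Z C F x y := by
  constructor
  · intro h
    have := conj_le_centralizer (g := g⁻¹) h
    rwa [conj_conj, conj_conj, inv_mul_cancel_left, inv_mul_cancel_left] at this
  · intro h
    have := conj_le_centralizer (g := g) h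
    rwa [conj_conj, conj_conj] at this

namespace Crit

variable {n : ℕ} {x y : G}

theorem symm (h : Crit Z C F n x y) : Crit Z C F n y x :=
  ⟨h.path.symm, fun h1 => h.ne h1.symm, h.min⟩

theorem mul_left (g : G) (h : Crit Z C F n x y) : Crit Z C F n (g * x) (g * y) :=
  ⟨h.path.mul_left g, fun h1 => h.ne (com_mul_left.1 h1), h.min⟩

theorem mul_right {c : G} (hc : c ∈ C) (h : Crit Z C F n x y) : Crit Z C F n x (y * c) := by
  refine ⟨h.path.mul_right hc, fun h1 => h.ne ?_, h.min⟩
  unfold Com at h1 ⊢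
  rwa [W_mul hc] at h1

end Crit

namespace Geo

variable (D : Geo S Z C F)
include D

omit D in
theorem Z_le_W (hF : F.Nonempty) : Z ≤ W Z C F := by
  obtain ⟨P, hP⟩ := hF
  have h1 := Z_le_V (Z := Z) (P := P) P.one_mem
  have h2 := line_le (Z := Z) (F := F) hP C.one_mem
  rw [map_one, one_smul] at h1 h2
  exact h1.trans h2

/-- Two lines on the point `Z` commute. -/
theorem comm_lines {P P' : Subgroup G} (hP : P ∈ F) (hP' : P' ∈ F) {c d : G} (hc : c ∈ C) (hd : d ∈ C) :
    MulAut.conj c • V Z P ≤ centralizer ((MulAut.conj d • V Z P' : Subgroup G) : Set G) := by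
  have key : ∀ {P P' : Subgroup G}, P ∈ F → P' ∈ F → ∀ {c d : G}, c ∈ C → d ∈ C →
      MulAut.conj c • V Z P ≤ MulAut.conj d • P' := by
    intro P P' hP hP' c d hc hd
    have h1 := conj_le_iff (g := c) |>.2 (D.low P hP (c⁻¹ * d) (C.mul_mem (C.inv_mem hc) hd))
    rw [conj_conj, mul_inv_cancel_left] at h1
    exact h1.trans (conj_le_iff.2 (D.SP P' hP'))
  exact D.noff' hP hP' (key hP hP' hc hd) (key hP' hP hd hc)

/-- **(2)** `W` is abelian. -/
theorem W_comm : W Z C F ≤ centralizer (W Z C F : Set G) :=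
  W_le fun _ hP _ hc => comm_symm (W_le fun _ hP' _ hd => comm_symm (D.comm_lines hP hP' hc hd))

theorem W_comm' (x : G) : Com Z C F x x := conj_le_centralizer D.W_comm

omit D in
/-- An abelian subgroup generated by elements of order at most 2 has exponent 2. -/
theorem sq_of_comm {A : Subgroup G} (hA : A ≤ centralizer (A : Set G)) {ι : Sort*} {B : ι → Subgroup G}
    (h : ∀ i, B i ≤ A) (hA' : A ≤ ⨆ i, B i) (hB : ∀ i, ∀ b ∈ B i, b ^ 2 = 1) : ∀ a ∈ A, a ^ 2 = 1 := by
  let E : Subgroup G :=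
    { carrier := {x | x ∈ A ∧ x ^ 2 = 1}
      one_mem' := ⟨one_mem _, one_pow 2⟩
      mul_mem' := by
        rintro x y ⟨hx, hx2⟩ ⟨hy, hy2⟩
        refine ⟨mul_mem hx hy, ?_⟩
        have h1 : Commute x y := (mem_centralizer_iff.1 (hA hx) y hy).symm
        rw [h1.mul_pow, hx2, hy2, one_mul]
      inv_mem' := by
        rintro x ⟨hx, hx2⟩
        exact ⟨inv_mem hx, by rw [inv_pow, hx2, inv_one]⟩ }
  have h1 : (⨆ i, B i) ≤ E := iSup_le fun i b hb => ⟨h i hb, hB i b hb⟩
  exact fun a ha => (h1 (hA' ha)).2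

omit D in
theorem conj_sq {A : Subgroup G} (hA : ∀ a ∈ A, a ^ 2 = 1) (g : G) : ∀ a ∈ MulAut.conj g • A, a ^ 2 = 1 := by
  intro a ha
  rw [mem_conj] at ha
  have h2 := hA _ ha
  have h3 : (g⁻¹ * a * g) ^ 2 = g⁻¹ * a ^ 2 * g := by
    have := conj_pow (i := 2) (a := g⁻¹) (b := a)
    rwa [inv_inv] at this
  rw [h3] at h2
  have h4 : a ^ 2 = g * 1 * g⁻¹ := by rw [← h2]; group
  rw [h4]; group

theorem V_sq {P : Subgroup G} (hP : P ∈ F) : ∀ v ∈ V Z P, v ^ 2 = 1 :=
  sq_of_comm (D.abel P hP) (B := fun p : P => MulAut.conj (p : G) • Z) (fun p => Z_le_V p.2) le_rfl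
    fun p => conj_sq D.Zsq p

/-- `W` has exponent 2. -/
theorem W_sq : ∀ w ∈ W Z C F, w ^ 2 = 1 := by
  refine sq_of_comm D.W_comm (ι := C × F) (B := fun i => MulAut.conj (i.1 : G) • V Z (i.2 : Subgroup G))
    (fun i => line_le i.2.2 i.1.2) (W_le fun P hP c hc => ?_) fun i => conj_sq (D.V_sq i.2.2) _
  exact le_iSup (fun i : C × F => MulAut.conj (i.1 : G) • V Z (i.2 : Subgroup G)) (⟨c, hc⟩, ⟨P, hP⟩)

theorem W_sq' (x : G) : ∀ w ∈ MulAut.conj x • W Z C F, w ^ 2 = 1 := conj_sq D.W_sq x

/-- If all `W_x` commute, a nontrivial 2-subgroup is normalised by `C` and all `P ∈ F`. -/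
theorem exists_local (hF : F.Nonempty) (hZ : Z ≠ ⊥) (h : ∀ k x y, Path C F k x y → Com Z C F x y) :
    ∃ U : Subgroup G, (∀ u ∈ U, u ^ 2 = 1) ∧ U ≤ centralizer (U : Set G) ∧ U ≠ ⊥ ∧
      (∀ P ∈ F, P ≤ normalizer (U : Set G)) ∧ C ≤ normalizer (U : Set G) := by
  let I := {y : G // ∃ k, Path C F k 1 y}
  let U : Subgroup G := ⨆ y : I, MulAut.conj (y : G) • W Z C F
  have hle : ∀ y, (∃ k, Path C F k 1 y) → MulAut.conj y • W Z C F ≤ U := fun y hy =>
    le_iSup (fun y : I => MulAut.conj (y : G) • W Z C F) ⟨y, hy⟩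
  have hcomm : U ≤ centralizer (U : Set G) := by
    refine iSup_le fun y => comm_symm (iSup_le fun y' => ?_)
    obtain ⟨k, hk⟩ := y.2
    obtain ⟨l, hl⟩ := y'.2
    exact h _ _ _ (hl.symm.trans hk)
  have hN : ∀ x : G, (∃ k, Path C F k 1 x) → (∃ k, Path C F k 1 x⁻¹) → x ∈ normalizer (U : Set G) := by
    have key : ∀ x : G, (∃ k, Path C F k 1 x) → MulAut.conj x • U ≤ U := by
      rintro x ⟨k, hk⟩
      rw [Subgroup.pointwise_smul_subset_iff]
      refine iSup_le fun y => ?_
      rw [← Subgroup.pointwise_smul_subset_iff, conj_conj]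
      obtain ⟨l, hl⟩ := y.2
      refine hle _ ⟨k + l, hk.trans ?_⟩
      have := hl.mul_left x
      rwa [mul_one] at this
    intro x hx hx'
    rw [mem_normalizer_iff]
    intro u
    constructor
    · intro hu
      have : x * u * x⁻¹ ∈ MulAut.conj x • U := by
        rw [mem_conj]
        simpa [mul_assoc] using hu
      exact key x hx this
    · intro hu
      have : u ∈ MulAut.conj x⁻¹ • U := by
        rw [mem_conj]
        simpa [mul_assoc] using hu
      exact key _ hx' this
  refine ⟨U, ?_, hcomm, ?_, ?_, ?_⟩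
  · exact sq_of_comm hcomm (B := fun y : I => MulAut.conj (y : G) • W Z C F) (fun y => hle _ y.2) le_rfl
      fun y => D.W_sq' y
  · intro hU
    apply hZ
    have h1 := hle 1 ⟨0, Path.refl 1⟩
    rw [map_one, one_smul, hU] at h1
    exact le_bot_iff.1 ((Z_le_W hF).trans h1)
  · intro P hP p hp
    have h1 : ∀ p ∈ P, ∃ k, Path C F k 1 p := fun p hp => ⟨1, by
      have := Path.one (C := C) hP (g := 1) hp
      rwa [one_mul] at this⟩
    exact hN p (h1 p hp) (h1 _ (P.inv_mem hp))
  · intro c hc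
    have h1 : ∀ c ∈ C, ∃ k, Path C F k 1 c := fun c hc => ⟨0, by
      have := Path.zero (F := F) 1 hc
      rwa [one_mul] at this⟩
    exact hN c (h1 c hc) (h1 _ (C.inv_mem hc))

/-- **(3)** There is a critical pair. -/
theorem exists_crit (hF : F.Nonempty) (hZ : Z ≠ ⊥)
    (hloc : ∀ U : Subgroup G, IsPGroup 2 U → (∀ P ∈ F, P ≤ normalizer (U : Set G)) →
      C ≤ normalizer (U : Set G) → U = ⊥) :
    ∃ n, 1 ≤ n ∧ ∃ y, Crit Z C F n 1 y := by
  classical
  have h1 : ∃ k, ∃ x y, Path C F k x y ∧ ¬ Com Z C F x y := by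
    by_contra hcon
    push Not at hcon
    obtain ⟨U, hU2, -, hU, hU1, hU3⟩ := D.exists_local hF hZ hcon
    refine hU (hloc U ?_ hU1 hU3)
    intro u
    exact ⟨1, Subtype.ext (by simpa using hU2 u u.2)⟩
  obtain ⟨x, y, hp, hne⟩ := Nat.find_spec h1
  have hmin : ∀ k < Nat.find h1, ∀ a b, Path C F k a b → Com Z C F a b := by
    intro k hk a b hab
    by_contra hcon
    exact Nat.find_min h1 hk ⟨a, b, hab, hcon⟩
  refine ⟨Nat.find h1, ?_, x⁻¹ * y, ?_⟩
  · rw [Nat.one_le_iff_ne_zero]
    intro h0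
    rw [h0] at hp
    cases hp with
    | zero _ hc =>
      apply hne
      unfold Com
      rw [W_mul hc]
      exact D.W_comm' x
  · have := (Crit.mk hp hne hmin).mul_left x⁻¹
    rwa [inv_mul_cancel] at this

end Geo

namespace Crit

variable {n : ℕ} {x y : G}

/-- **(3)** The last line of the path to a critical point is centralised by `W_x`. -/
theorem last (h : Crit Z C F (n + 1) x y) : ∃ u p c P, P ∈ F ∧ p ∈ P ∧ c ∈ C ∧ Path C F n x u ∧
    y = u * p * c ∧ MulAut.conj x • W Z C F ≤ centralizer ((MulAut.conj u • V Z P : Subgroup G) : Set G) ∧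
    MulAut.conj u • V Z P ≤ MulAut.conj y • W Z C F := by
  have hpath := h.path
  rcases hpath with _ | @⟨_, _, u, p, c, P, hu, hP, hp, hc⟩
  refine ⟨u, p, c, P, hP, hp, hc, hu, rfl, ?_, ?_⟩
  · have h1 := h.min n (Nat.lt_succ_self n) _ _ hu
    exact comm_mono h1 le_rfl (conj_line_le' hP u)
  · rw [W_mul hc]
    have := conj_line_le' (Z := Z) (C := C) hP (u * p)
    rwa [conj_V_mul hp] at this

/-- `W_x` centralises `Z_y`. -/
theorem le_centralizer_Z (hCZ : C ≤ normalizer (Z : Set G)) (h : Crit Z C F (n + 1) x y) :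
    MulAut.conj x • W Z C F ≤ centralizer ((MulAut.conj y • Z : Subgroup G) : Set G) := by
  obtain ⟨u, p, c, P, hP, hp, hc, -, rfl, h1, -⟩ := h.last
  refine h1.trans (centralizer_le ?_)
  rw [← conj_conj (u * p) c, conj_eq (hCZ hc)]
  exact conj_Z_le hp

end Crit

namespace Geo

variable (D : Geo S Z C F) {n : ℕ} {x y : G}
include D

/-- **(3)** `W_x` lies in the point stabiliser `C_y`. -/
theorem le_point (h : Crit Z C F (n + 1) x y) : MulAut.conj x • W Z C F ≤ MulAut.conj y • C := by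
  refine (h.le_centralizer_Z D.CZ).trans fun a ha => ?_
  rw [mem_conj]
  apply D.cen
  rw [mem_centralizer_iff]
  intro z hz
  have h1 : y * z * y⁻¹ ∈ MulAut.conj y • Z := by
    rw [mem_conj]
    simpa [mul_assoc] using hz
  have h2 := congrArg (fun t => y⁻¹ * t * y) (mem_centralizer_iff.1 ha _ h1)
  simpa [mul_assoc] using h2

omit D in
theorem normalizer_W (y : G) : MulAut.conj y • C ≤ normalizer ((MulAut.conj y • W Z C F : Subgroup G) : Set G) := by
  rw [Main.normalizer_conj]
  exact conj_le_iff.2 C_le_normalizer_W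

/-- **(3)** `W_x` normalises `W_y`. -/
theorem le_normalizer (h : Crit Z C F (n + 1) x y) :
    MulAut.conj x • W Z C F ≤ normalizer ((MulAut.conj y • W Z C F : Subgroup G) : Set G) :=
  (D.le_point h).trans (normalizer_W y)

/-- **(3)** `[W_x, W_y] ≤ W_x ∩ W_y`. -/
theorem commutator_le (h : Crit Z C F (n + 1) x y) :
    ⁅MulAut.conj x • W Z C F, MulAut.conj y • W Z C F⁆ ≤
      (MulAut.conj x • W Z C F) ⊓ (MulAut.conj y • W Z C F) := by
  rw [Subgroup.commutator_le]
  intro a ha b hb
  rw [commutatorElement_def]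
  refine Subgroup.mem_inf.2 ⟨?_, ?_⟩
  · have h1 := (mem_normalizer_iff.1 (D.le_normalizer h.symm hb) a⁻¹).1 ((MulAut.conj x • W Z C F).inv_mem ha)
    have h2 := mul_mem ha h1
    simpa only [mul_assoc] using h2
  · exact mul_mem ((mem_normalizer_iff.1 (D.le_normalizer h ha) b).1 hb) ((MulAut.conj y • W Z C F).inv_mem hb)

/-- **(3)** `W_x` acts quadratically on `W_y`. -/
theorem quad (h : Crit Z C F (n + 1) x y) {a b b' : G} (ha : a ∈ MulAut.conj y • W Z C F)
    (hb : b ∈ MulAut.conj x • W Z C F) (hb' : b' ∈ MulAut.conj x • W Z C F) :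
    b' * (a * b * a⁻¹ * b⁻¹) = (a * b * a⁻¹ * b⁻¹) * b' := by
  have h1 := (D.commutator_le h.symm (commutator_mem_commutator ha hb)).2
  rw [commutatorElement_def] at h1
  exact (mem_centralizer_iff.1 (D.W_comm' x h1) b' hb')

omit D in
/-- `W_y` is generated by its lines: a critical pair has noncommuting lines. -/
theorem exists_lines (h : ¬ Com Z C F x y) : ∃ P ∈ F, ∃ P' ∈ F, ∃ c ∈ C, ∃ d ∈ C,
    ¬ MulAut.conj (x * c) • V Z P ≤ centralizer ((MulAut.conj (y * d) • V Z P' : Subgroup G) : Set G) := by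
  by_contra hcon
  push Not at hcon
  exact h (conj_W_le fun P hP c hc => comm_symm (conj_W_le fun P' hP' d hd =>
    comm_symm (hcon P hP P' hP' c hc d hd)))

end Geo

/-- `V_P ≤ S`. -/
theorem _root_.Cfsg.Agent.Omega.NoFF.Basic.Sys.V_le_S {S : Subgroup G} (D : Sys S Z F) {P : Subgroup G}
    (hP : P ∈ F) : V Z P ≤ S := by
  refine V_le fun q hq => ?_
  intro x hx
  rw [mem_conj] at hx
  have hz : Z ≤ V Z P := by
    have := Z_le_V (Z := Z) P.one_mem
    rwa [map_one, one_smul] at this
  have h1 := D.core P hP q⁻¹ (P.inv_mem hq) _ (D.ZS hx) (D.abel P hP (hz hx))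
  rw [mem_conj] at h1
  simpa [mul_assoc] using h1

/-- **NOFF for lines**: conjugates of `V_P`, `V_P'` which normalise each other commute. -/
theorem noff_lines [Finite G] {p : ℕ} [Fact p.Prime] {S : Sylow p G} (D : Sys (S : Subgroup G) Z F)
    {P P' : Subgroup G} (hP : P ∈ F) (hP' : P' ∈ F) {g h : G}
    (h1 : MulAut.conj g • V Z P ≤ normalizer ((MulAut.conj h • V Z P' : Subgroup G) : Set G))
    (h2 : MulAut.conj h • V Z P' ≤ normalizer ((MulAut.conj g • V Z P : Subgroup G) : Set G)) :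
    MulAut.conj g • V Z P ≤ centralizer ((MulAut.conj h • V Z P' : Subgroup G) : Set G) := by
  have hPN : ∀ {P : Subgroup G}, P ∈ F → P ≤ normalizer (V Z P : Set G) := by
    intro P hP q hq
    have e := conj_V_mul (Z := Z) (P := P) (g := 1) hq
    rw [one_mul, map_one, one_smul] at e
    rw [mem_normalizer_iff]
    intro y
    constructor
    · intro hy
      rw [← e, mem_conj]
      simpa [mul_assoc] using hy
    · intro hy
      rw [← e, mem_conj] at hy
      simpa [mul_assoc] using hy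
  have hSN : ∀ {P : Subgroup G}, P ∈ F → (S : Subgroup G) ≤ normalizer (V Z P : Set G) :=
    fun hP => (D.SP _ hP).trans (hPN hP)
  have key : ∀ {P P' : Subgroup G}, P ∈ F → P' ∈ F → ∀ {g h : G},
      MulAut.conj g • V Z P ≤ normalizer ((MulAut.conj h • V Z P' : Subgroup G) : Set G) →
      ∃ m ∈ normalizer (V Z P' : Set G), MulAut.conj g • V Z P ≤ MulAut.conj (h * m) • (S : Subgroup G) := by
    intro P P' hP hP' g h h1
    have h3 : MulAut.conj (h⁻¹ * g) • V Z P ≤ normalizer (V Z P' : Set G) := by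
      rw [Main.normalizer_conj] at h1
      have := conj_le_iff (g := h⁻¹) |>.2 h1
      rwa [conj_conj, conj_conj, inv_mul_cancel, map_one, one_smul] at this
    obtain ⟨m, hm, h4⟩ := Main.exists_le_conj S (hSN hP')
      ((S.2.to_le (D.V_le_S hP)).map (MulAut.conj (h⁻¹ * g)).toMonoidHom) h3
    refine ⟨m, hm, ?_⟩
    have h5 := conj_le_iff (g := h) |>.2 h4
    change MulAut.conj h • (MulAut.conj (h⁻¹ * g) • V Z P) ≤ _ at h5
    rwa [conj_conj, mul_inv_cancel_left, conj_conj] at h5
  obtain ⟨m, hm, h3⟩ := key hP hP' h1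
  obtain ⟨k, hk, h4⟩ := key hP' hP h2
  have e1 : MulAut.conj (g * k) • V Z P = MulAut.conj g • V Z P := by
    rw [← conj_conj, conj_eq hk]
  have e2 : MulAut.conj (h * m) • V Z P' = MulAut.conj h • V Z P' := by
    rw [← conj_conj, conj_eq hm]
  have h5 := D.noff' hP hP' (g := g * k) (h := h * m)
    (by rw [e1]; exact h3.trans (conj_le_iff.2 (D.SP P' hP')))
    (by rw [e2]; exact h4.trans (conj_le_iff.2 (D.SP P hP)))
  rwa [e1, e2] at h5

end Cfsg.Agent.Omega.NoFF.Lines
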