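import Cfsg.Agent.Omega.NoFF.Basic

/-!
# Case NOFF: the canonical abelian subgroup `⟨Z^{X*}⟩`
-/

set_option autoImplicit false

namespace Cfsg.Agent.Omega.NoFF.Main

open Subgroup Cfsg.Agent.Omega.NoFF.Basic
open scoped Pointwise

variable {G : Type*} [Group G] {S Z N : Subgroup G} {F : Set (Subgroup G)}

/-- `N` (to be `N_G(S)`) normalises `S`, `Z` and permutes `F`. -/
structure Inv (S Z N : Subgroup G) (F : Set (Subgroup G)) : Prop where
  nS : ∀ n ∈ N, MulAut.conj n • S = S
  nZ : ∀ n ∈ N, MulAut.conj n • Z = Z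
  nF : ∀ n ∈ N, ∀ P ∈ F, MulAut.conj n • P ∈ F

/-- `X* = ⟨F, N⟩` -/
def X (N : Subgroup G) (F : Set (Subgroup G)) : Subgroup G := N ⊔ sSup F

/-- `⟨Z^{X*}⟩` -/
def A (Z N : Subgroup G) (F : Set (Subgroup G)) : Subgroup G := V Z (X N F)

theorem N_le_X : N ≤ X N F := le_sup_left

theorem le_X {P : Subgroup G} (hP : P ∈ F) : P ≤ X N F := (le_sSup hP).trans le_sup_right

theorem _root_.Cfsg.Agent.Omega.NoFF.Basic.Gal.conj_right (h : Inv S Z N F) {n : G} (hn : n ∈ N) {k : ℕ} {a b : G}
    (H : Gal F k a b) : Gal F k (a * n) (b * n) := by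
  induction H with
  | zero => exact Gal.zero _
  | @step k a b p P _ hP hp ih =>
    have h1 : b * p * n = (b * n) * (n⁻¹ * p * n) := by group
    rw [h1]
    refine ih.step (h.nF n⁻¹ (N.inv_mem hn) P hP) ?_
    rw [mem_conj]
    simpa [mul_assoc] using hp

/-- every element of `X*` is the end of a gallery times an element of `N` -/
theorem exists_gal (h : Inv S Z N F) {x : G} (hx : x ∈ X N F) : ∃ k u, Gal F k 1 u ∧ ∃ n ∈ N, x = u * n := by
  have h1 : X N F = closure ((N : Set G) ∪ ⋃ P ∈ F, (P : Set G)) := by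
    apply le_antisymm
    · refine sup_le (fun n hn => subset_closure (Or.inl hn)) (sSup_le fun P hP p hp => subset_closure (Or.inr ?_))
      simp only [Set.mem_iUnion]
      exact ⟨P, hP, hp⟩
    · rw [closure_le]
      rintro y (hy | hy)
      · exact N_le_X hy
      · simp only [Set.mem_iUnion] at hy
        obtain ⟨P, hP, hy⟩ := hy
        exact le_X hP hy
  rw [h1] at hx
  have key : ∀ y, y ∈ ((N : Set G) ∪ ⋃ P ∈ F, (P : Set G)) → ∀ x, (∃ k u, Gal F k 1 u ∧ ∃ n ∈ N, x = u * n) →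
      ∃ k u, Gal F k 1 u ∧ ∃ n ∈ N, x * y = u * n := by
    rintro y (hy | hy) x ⟨k, u, hu, n, hn, rfl⟩
    · exact ⟨k, u, hu, n * y, N.mul_mem hn hy, by group⟩
    · simp only [Set.mem_iUnion] at hy
      obtain ⟨P, hP, hy⟩ := hy
      refine ⟨k + 1, u * (n * y * n⁻¹), hu.step (h.nF n hn P hP) ?_, n, hn, by group⟩
      rw [mem_conj]
      simpa [mul_assoc] using hy
  induction hx using closure_induction_right with
  | one => exact ⟨0, 1, Gal.zero 1, 1, N.one_mem, by simp⟩
  | mul_right x hx y hy ih => exact key y hy x ih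
  | mul_inv_cancel x hx y hy ih =>
    refine key y⁻¹ ?_ x ih
    rcases hy with hy | hy
    · exact Or.inl (N.inv_mem hy)
    · simp only [Set.mem_iUnion] at hy ⊢
      obtain ⟨P, hP, hy⟩ := hy
      exact Or.inr (by
        simp only [Set.mem_iUnion]
        exact ⟨P, hP, P.inv_mem hy⟩)

theorem gal_mem {k : ℕ} {a b : G} (H : Gal F k a b) : a⁻¹ * b ∈ X N F := by
  induction H with
  | zero => rw [inv_mul_cancel]; exact one_mem _
  | step _ hP hp ih => rw [← mul_assoc]; exact (X N F).mul_mem ih (le_X hP hp)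

/-- `⟨Z^{X*}⟩^g` is generated by the `Z` of the chambers reachable from `g` by galleries -/
theorem conj_A_le (h : Inv S Z N F) {g : G} {B : Subgroup G}
    (H : ∀ k a, Gal F k g a → MulAut.conj a • Z ≤ B) : MulAut.conj g • A Z N F ≤ B := by
  refine conj_V_le fun x hx => ?_
  obtain ⟨k, u, hu, n, hn, rfl⟩ := exists_gal h hx
  have h1 := hu.mul_left g
  rw [mul_one] at h1
  rw [← mul_assoc, ← conj_conj, h.nZ n hn]
  exact H k _ h1

theorem Z_le_A {k : ℕ} {g a : G} (H : Gal F k g a) : MulAut.conj a • Z ≤ MulAut.conj g • A Z N F := by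
  have := conj_Z_le (Z := Z) (P := X N F) (g := g) (gal_mem (N := N) H)
  rwa [mul_inv_cancel_left] at this

theorem conj_A {x : G} (hx : x ∈ X N F) : MulAut.conj x • A Z N F = A Z N F := by
  have := conj_V_mul (Z := Z) (P := X N F) (g := 1) hx
  rwa [one_mul, map_one, one_smul] at this

theorem Z_le : Z ≤ A Z N F := by
  have := Z_le_V (Z := Z) (P := X N F) (one_mem _)
  rwa [map_one, one_smul] at this

theorem X_le_normalizer : X N F ≤ normalizer (A Z N F : Set G) := by
  intro x hx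
  rw [mem_normalizer_iff]
  intro y
  have h1 := conj_A (Z := Z) hx
  constructor
  · intro hy
    rw [← h1]
    rw [mem_conj]
    simpa [mul_assoc] using hy
  · intro hy
    rw [← h1, mem_conj] at hy
    simpa [mul_assoc] using hy

section

variable (D : Sys S Z F) (h : Inv S Z N F)
include D h

/-- **(1)** -/
theorem comm_A : A Z N F ≤ centralizer (A Z N F : Set G) := by
  have key : ∀ k u, Gal F k 1 u → A Z N F ≤ centralizer ((MulAut.conj u • Z : Subgroup G) : Set G) := by
    intro k u hu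
    have := conj_A_le (g := 1) (B := centralizer ((MulAut.conj u • Z : Subgroup G) : Set G)) h fun l a ha =>
      D.comm_gal _ a u (ha.symm.trans hu)
    rwa [map_one, one_smul] at this
  have := conj_A_le (g := 1) (B := centralizer (A Z N F : Set G)) h fun l a ha => comm_symm (key l a ha)
  rwa [map_one, one_smul] at this

/-- **(3)** in terms of chambers -/
theorem comm_of_le {x y : G} (h1 : MulAut.conj x • A Z N F ≤ MulAut.conj y • S)
    (h2 : MulAut.conj y • A Z N F ≤ MulAut.conj x • S) :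
    MulAut.conj x • A Z N F ≤ centralizer ((MulAut.conj y • A Z N F : Subgroup G) : Set G) := by
  have hx : ∀ i a, Gal F i x a → MulAut.conj a • Z ≤ MulAut.conj y • S := fun i a ha => (Z_le_A ha).trans h1
  have hy : ∀ i a, Gal F i y a → MulAut.conj a • Z ≤ MulAut.conj x • S := fun i a ha => (Z_le_A ha).trans h2
  refine conj_A_le h fun i a ha => comm_symm (conj_A_le h fun j b hb => ?_)
  exact comm_symm (D.comm_of_gal hx hy _ i j rfl a b ha hb)

end

/-- `⟨Z^{X*}⟩` is a `p`-group -/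
theorem isPGroup {p : ℕ} (D : Sys S Z F) (h : Inv S Z N F) (hZ : IsPGroup p Z) : IsPGroup p (A Z N F) := by
  have hc := comm_A D h
  let B : Subgroup G :=
    { carrier := {x | x ∈ A Z N F ∧ ∃ k, x ^ p ^ k = 1}
      one_mem' := ⟨one_mem _, 0, by simp⟩
      mul_mem' := by
        rintro x y ⟨hx, k, hk⟩ ⟨hy, l, hl⟩
        refine ⟨mul_mem hx hy, k + l, ?_⟩
        have h1 : Commute x y := (mem_centralizer_iff.1 (hc hx) y hy).symm
        rw [h1.mul_pow, pow_add, pow_mul, hk, one_pow, one_mul, mul_comm (p ^ k), pow_mul, hl, one_pow]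
      inv_mem' := by
        rintro x ⟨hx, k, hk⟩
        exact ⟨inv_mem hx, k, by rw [inv_pow, hk, inv_one]⟩ }
  have h1 : MulAut.conj (1 : G) • A Z N F ≤ B := conj_A_le h fun k a ha x hx => by
    refine ⟨?_, ?_⟩
    · have := Z_le_A (Z := Z) (N := N) ha hx
      rwa [map_one, one_smul] at this
    · rw [mem_conj] at hx
      obtain ⟨k, hk⟩ := hZ ⟨_, hx⟩
      refine ⟨k, ?_⟩
      have h2 : (a⁻¹ * x * a) ^ p ^ k = 1 := congrArg Subtype.val hk
      have h3 : (a⁻¹ * x * a) ^ p ^ k = a⁻¹ * x ^ p ^ k * a := by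
        have := conj_pow (i := p ^ k) (a := a⁻¹) (b := x)
        rwa [inv_inv] at this
      rw [h3] at h2
      have h4 : x ^ p ^ k = a * 1 * a⁻¹ := by rw [← h2]; group
      rw [h4]; group
  rw [map_one, one_smul] at h1
  intro x
  obtain ⟨-, k, hk⟩ := h1 x.2
  exact ⟨k, Subtype.ext hk⟩

/-- a `p`-subgroup of `M ≥ S` lies in an `M`-conjugate of the Sylow subgroup `S` -/
theorem exists_le_conj [Finite G] {p : ℕ} [Fact p.Prime] (S : Sylow p G) {M Q : Subgroup G} (hS : (S : Subgroup G) ≤ M)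
    (hQ : IsPGroup p Q) (hQM : Q ≤ M) : ∃ m ∈ M, Q ≤ MulAut.conj m • (S : Subgroup G) := by
  have h1 : IsPGroup p (Q.subgroupOf M) := hQ.of_equiv (Subgroup.subgroupOfEquivOfLe hQM).symm
  obtain ⟨T, hT⟩ := h1.exists_le_sylow
  obtain ⟨m, hm⟩ := MulAction.exists_smul_eq M (S.subtype hS) T
  refine ⟨m, m.2, fun x hx => ?_⟩
  have h2 : (⟨x, hQM hx⟩ : M) ∈ (T : Subgroup M) := hT (by rw [mem_subgroupOf]; exact hx)
  rw [← hm, Sylow.coe_subgroup_smul, mem_pointwise_smul_iff_inv_smul_mem] at h2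
  rw [mem_conj]
  rw [Sylow.coe_subtype, mem_subgroupOf, ← map_inv, MulAut.smul_def, MulAut.conj_apply] at h2
  simpa using h2

theorem conj_eq_of_mem_normalizer {B : Subgroup G} {g : G} (hg : g ∈ normalizer (B : Set G)) : MulAut.conj g • B = B := by
  ext x
  rw [mem_conj]
  have := (mem_normalizer_iff.1 ((normalizer (B : Set G)).inv_mem hg)) x
  rw [inv_inv] at this
  exact this.symm

theorem normalizer_conj (B : Subgroup G) (g : G) :
    normalizer ((MulAut.conj g • B : Subgroup G) : Set G) = MulAut.conj g • normalizer (B : Set G) := by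
  ext x
  rw [mem_conj, mem_normalizer_iff, mem_normalizer_iff]
  constructor
  · intro H y
    have := H (g * y * g⁻¹)
    rw [mem_conj, mem_conj] at this
    simpa [mul_assoc] using this
  · intro H y
    have := H (g⁻¹ * y * g)
    rw [mem_conj, mem_conj]
    simpa [mul_assoc] using this

/-- **(3)** Big NOFF. -/
theorem comm_of_le_normalizer [Finite G] {p : ℕ} [Fact p.Prime] {S : Sylow p G} (D : Sys (S : Subgroup G) Z F)
    (h : Inv (S : Subgroup G) Z N F) (hS : (S : Subgroup G) ≤ normalizer (A Z N F : Set G)) {g : G}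
    (h1 : MulAut.conj g • A Z N F ≤ normalizer (A Z N F : Set G))
    (h2 : A Z N F ≤ normalizer ((MulAut.conj g • A Z N F : Subgroup G) : Set G)) :
    A Z N F ≤ centralizer ((MulAut.conj g • A Z N F : Subgroup G) : Set G) := by
  have hA : IsPGroup p (A Z N F) := isPGroup D h (S.2.to_le D.ZS)
  obtain ⟨m, hm, h3⟩ := exists_le_conj S hS (hA.map (MulAut.conj g).toMonoidHom) h1
  obtain ⟨m', hm', h4⟩ := exists_le_conj S hS (hA.map (MulAut.conj g⁻¹).toMonoidHom) (by
    rw [normalizer_conj] at h2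
    have := conj_le_iff (g := g⁻¹) |>.2 h2
    rwa [conj_conj, inv_mul_cancel, map_one, one_smul] at this)
  have h5 := conj_le_iff (g := g) |>.2 h4
  have h6 : MulAut.conj g • (A Z N F).map (MulAut.conj g⁻¹).toMonoidHom = A Z N F := by
    change MulAut.conj g • (MulAut.conj g⁻¹ • A Z N F) = _
    rw [conj_conj, mul_inv_cancel, map_one, one_smul]
  rw [h6, conj_conj] at h5
  have h7 : MulAut.conj (g * m') • A Z N F = MulAut.conj g • A Z N F := by
    rw [← conj_conj, conj_eq_of_mem_normalizer hm']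
  have h8 := comm_of_le D h (x := m) (y := g * m') (by rw [conj_eq_of_mem_normalizer hm]; exact h5)
    (by rw [h7]; exact h3)
  rwa [conj_eq_of_mem_normalizer hm, h7] at h8

/-- **(4)** If `⟨Z^{X*}⟩ ≤ S^c` for all `c ∈ C`, then `⟨⟨Z^{X*}⟩^C⟩` is abelian. -/
theorem comm_W (D : Sys S Z F) (h : Inv S Z N F) {C : Subgroup G} (hC : ∀ c ∈ C, A Z N F ≤ MulAut.conj c • S) :
    V (A Z N F) C ≤ centralizer (V (A Z N F) C : Set G) := by
  have key : ∀ c ∈ C, ∀ d ∈ C, MulAut.conj c • A Z N F ≤ centralizer ((MulAut.conj d • A Z N F : Subgroup G) : Set G) := by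
    have h1 : ∀ c ∈ C, ∀ d ∈ C, MulAut.conj c • A Z N F ≤ MulAut.conj d • S := fun c hc d hd => by
      have := conj_le_iff (g := c) |>.2 (hC (c⁻¹ * d) (C.mul_mem (C.inv_mem hc) hd))
      rwa [conj_conj, mul_inv_cancel_left] at this
    exact fun c hc d hd => comm_of_le D h (h1 c hc d hd) (h1 d hd c hc)
  exact V_le fun c hc => comm_symm (V_le fun d hd => comm_symm (key c hc d hd))

end Cfsg.Agent.Omega.NoFF.Main
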