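import Cfsg.Agent.Omega.NoFF.ThmJFam

/-!
# THEOREM JQ (helper861): the J-argument inside a normal subgroup `N` of the point stabiliser

In the geometry `Lines.Geo` of case NO-3' let `N` be a normal subgroup of `C` containing all lines on the point `Z`
and normalising them (for instance `N = O₂(C)`), and assume that no elementary abelian subgroup of `N` is an
over-offender on a line `V_P`.

* `one` : every elementary abelian subgroup `A` of maximal order in `N_x` can be replaced by one containing `W_x`;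
* `core` : if every such `A ≥ W` lies in `N^p` for all `p ∈ P ∈ F`, then all `W_x` in the component commute;
* `thmJQ` : there are `P ∈ F`, `p ∈ P` and `A ≤ N` elementary abelian of maximal order in `N`, with `W ≤ A`, but
  `A ≰ N^p`.
-/

set_option autoImplicit false

namespace Cfsg.Agent.Omega.NoFF.ThmJQ

open Subgroup Cfsg.Agent.Omega.NoFF.Basic Cfsg.Agent.Omega.NoFF.Lines Cfsg.Agent.Omega.NoFF.ThmJFam
open scoped Pointwise

variable {G : Type*} [Group G] {Z C N : Subgroup G} {F : Set (Subgroup G)}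

/-- elementary abelian of maximal order in `N` -/
def MxIn (N A : Subgroup G) : Prop := Ex A ∧ A ≤ N ∧ ∀ B : Subgroup G, Ex B → B ≤ N → Nat.card B ≤ Nat.card A

theorem MxIn.conj {A : Subgroup G} (h : MxIn N A) (g : G) : MxIn (MulAut.conj g • N) (MulAut.conj g • A) := by
  refine ⟨h.1.conj g, conj_le_iff.2 h.2.1, fun B hB hBN => ?_⟩
  have h1 : MulAut.conj g⁻¹ • B ≤ N := by
    have := conj_le_iff (g := g⁻¹) |>.2 hBN
    rwa [conj_conj, inv_mul_cancel, map_one, one_smul] at this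
  have h2 := h.2.2 _ (hB.conj g⁻¹) h1
  rwa [card_conj, ← card_conj g A] at h2

theorem MxIn.conj_inv {A : Subgroup G} {g : G} (h : MxIn (MulAut.conj g • N) A) : MxIn N (MulAut.conj g⁻¹ • A) := by
  have := h.conj g⁻¹
  rwa [conj_conj, inv_mul_cancel, map_one, one_smul] at this

theorem exists_mxIn [Finite G] (N : Subgroup G) : ∃ A : Subgroup G, MxIn N A := by
  obtain ⟨A, hA, hmax⟩ := Set.exists_max_image {A : Subgroup G | Ex A ∧ A ≤ N} (fun A => Nat.card A)
    (Set.toFinite _) ⟨⊥, fun a ha => by rw [mem_bot.1 ha, one_pow], bot_le⟩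
  exact ⟨A, hA.1, hA.2, fun B hB hBN => hmax B ⟨hB, hBN⟩⟩

/-- the same order in all conjugates of `N` -/
theorem MxIn.card_eq {A B : Subgroup G} {x y : G} (h : MxIn (MulAut.conj x • N) A)
    (h' : MxIn (MulAut.conj y • N) B) : Nat.card A = Nat.card B := by
  have key : ∀ {A B : Subgroup G} {x y : G}, MxIn (MulAut.conj x • N) A → MxIn (MulAut.conj y • N) B →
      Nat.card A ≤ Nat.card B := by
    intro A B x y h h'
    have h1 := h.conj_inv.conj y
    rw [← card_conj x⁻¹ A, ← card_conj y (MulAut.conj x⁻¹ • A)]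
    exact h'.2.2 _ h1.1 h1.2.1
  exact le_antisymm (key h h') (key h' h)

/-- an elementary abelian subgroup of `N_y` of the right order is maximal -/
theorem MxIn.of_le {A : Subgroup G} {x y : G} (h : MxIn (MulAut.conj x • N) A) (hA : A ≤ MulAut.conj y • N) :
    MxIn (MulAut.conj y • N) A := by
  refine ⟨h.1, hA, fun B hB hBN => ?_⟩
  have h1 := h.2.2 (MulAut.conj x • (MulAut.conj y⁻¹ • B)) ((hB.conj _).conj _) (conj_le_iff.2 ?_)
  · rwa [card_conj, card_conj] at h1
  · have := conj_le_iff (g := y⁻¹) |>.2 hBN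
    rwa [conj_conj, inv_mul_cancel, map_one, one_smul] at this

/-- Replacement: `A ↦ V C_A(V)`. -/
theorem swap [Finite G] {V A : Subgroup G} (hA : MxIn N A) (hV : Ex V) (hVN : V ≤ N)
    (bhs : Nat.card A * Nat.card (V ⊓ centralizer (A : Set G) : Subgroup G) ≤
        Nat.card V * Nat.card (A ⊓ centralizer (V : Set G) : Subgroup G)) :
    MxIn N (V ⊔ A ⊓ centralizer (V : Set G)) := by
  have hE : Ex (V ⊔ A ⊓ centralizer (V : Set G)) := Ex.sup hV (hA.1.mono inf_le_left) (comm_symm inf_le_right)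
  refine ⟨hE, sup_le hVN (inf_le_left.trans hA.2.1), fun B hB hBN => (hA.2.2 B hB hBN).trans ?_⟩
  have h2 := card_sup_inf (A := V) (B := A ⊓ centralizer (V : Set G)) (comm_symm inf_le_right)
  have h3 : Nat.card (V ⊓ (A ⊓ centralizer (V : Set G)) : Subgroup G) ≤
      Nat.card (V ⊓ centralizer (A : Set G) : Subgroup G) :=
    Subgroup.card_le_of_le (inf_le_inf le_rfl (inf_le_left.trans hA.1.comm))
  rw [← h2] at bhs
  have h4 : 0 < Nat.card (V ⊓ (A ⊓ centralizer (V : Set G)) : Subgroup G) := Nat.card_pos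
  exact Nat.le_of_mul_le_mul_right ((Nat.mul_le_mul_left _ h3).trans bhs) h4

/-- The hypotheses on `N`. -/
structure Nrm (Z C N : Subgroup G) (F : Set (Subgroup G)) : Prop where
  nor : C ≤ normalizer (N : Set G)
  low : ∀ P ∈ F, V Z P ≤ N
  fix : ∀ P ∈ F, N ≤ normalizer (V Z P : Set G)
  bhs : ∀ P ∈ F, ∀ A : Subgroup G, A ≤ N → Ex A →
    Nat.card A * Nat.card (V Z P ⊓ centralizer (A : Set G) : Subgroup G) ≤
      Nat.card (V Z P) * Nat.card (A ⊓ centralizer (V Z P : Set G) : Subgroup G)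

theorem Nrm.conj_eq (K : Nrm Z C N F) {x c : G} (hc : c ∈ C) : MulAut.conj (x * c) • N = MulAut.conj x • N := by
  rw [← conj_conj, Lines.conj_eq (K.nor hc)]

theorem Nrm.W_le (K : Nrm Z C N F) (x : G) : MulAut.conj x • W Z C F ≤ MulAut.conj x • N := by
  refine conj_W_le fun P hP c hc => ?_
  rw [← K.conj_eq hc]
  exact conj_le_iff.2 (K.low P hP)

theorem Nrm.line_fix (K : Nrm Z C N F) (x : G) {P : Subgroup G} (hP : P ∈ F) {c : G} (hc : c ∈ C) :
    MulAut.conj x • N ≤ normalizer ((MulAut.conj (x * c) • V Z P : Subgroup G) : Set G) := by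
  rw [← K.conj_eq hc, Main.normalizer_conj]
  exact conj_le_iff.2 (K.fix P hP)

/-- Replacement at a line on `x`. -/
theorem Nrm.swap [Finite G] {S : Subgroup G} (D : Geo S Z C F) (K : Nrm Z C N F) (x : G) {A : Subgroup G}
    (hA : MxIn (MulAut.conj x • N) A) {P : Subgroup G} (hP : P ∈ F) {c : G} (hc : c ∈ C) :
    MxIn (MulAut.conj x • N) (MulAut.conj (x * c) • V Z P ⊔
      A ⊓ centralizer ((MulAut.conj (x * c) • V Z P : Subgroup G) : Set G)) := by
  rw [← K.conj_eq hc] at hA ⊢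
  have h1 := (ThmJQ.swap hA.conj_inv (D.V_sq hP) (K.low P hP)
    (K.bhs P hP _ hA.conj_inv.2.1 hA.conj_inv.1)).conj (x * c)
  rwa [Subgroup.smul_sup, conj_inf, conj_cent, conj_conj, mul_inv_cancel, map_one, one_smul] at h1

/-- **(1)** -/
theorem one [Finite G] {S : Subgroup G} (D : Geo S Z C F) (K : Nrm Z C N F) {x : G} {A : Subgroup G}
    (hA : MxIn (MulAut.conj x • N) A) :
    ∃ A₁, MxIn (MulAut.conj x • N) A₁ ∧ MulAut.conj x • W Z C F ≤ A₁ ∧
      A ⊓ centralizer ((MulAut.conj x • W Z C F : Subgroup G) : Set G) ≤ A₁ ∧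
      A₁ ≤ A ⊔ MulAut.conj x • W Z C F := by
  classical
  have key : ∀ s : Finset (G × Subgroup G), (∀ l ∈ s, l.1 ∈ C ∧ l.2 ∈ F) →
      ∃ A₁, MxIn (MulAut.conj x • N) A₁ ∧ (∀ l ∈ s, MulAut.conj (x * l.1) • V Z l.2 ≤ A₁) ∧
        A ⊓ centralizer ((MulAut.conj x • W Z C F : Subgroup G) : Set G) ≤ A₁ ∧
        A₁ ≤ A ⊔ MulAut.conj x • W Z C F := by
    intro s
    induction s using Finset.induction_on with
    | empty => exact fun _ => ⟨A, hA, by simp, inf_le_left, le_sup_left⟩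
    | insert l s _ ih =>
      intro hs
      obtain ⟨A₁, h1, h3, h4, h5⟩ := ih fun l' hl' => hs l' (Finset.mem_insert_of_mem hl')
      obtain ⟨hlC, hlF⟩ := hs l (Finset.mem_insert_self _ _)
      have hle := conj_line_le (Z := Z) hlF x hlC
      refine ⟨_, K.swap D x h1 hlF hlC, ?_, ?_, sup_le (hle.trans le_sup_right) (inf_le_left.trans h5)⟩
      · intro l' hl'
        rw [Finset.mem_insert] at hl'
        rcases hl' with rfl | hl'
        · exact le_sup_left
        · obtain ⟨hC', hF'⟩ := hs l' (Finset.mem_insert_of_mem hl')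
          refine le_trans (le_inf (h3 l' hl') ?_) le_sup_right
          exact comm_mono (D.W_comm' x) (conj_line_le hF' x hC') hle
      · refine le_trans (le_inf h4 ?_) le_sup_right
        exact inf_le_right.trans (centralizer_le hle)
  have hfin : {l : G × Subgroup G | l.1 ∈ C ∧ l.2 ∈ F}.Finite := Set.toFinite _
  obtain ⟨A₁, h1, h3, h4, h5⟩ := key hfin.toFinset fun l hl => by
    rw [Set.Finite.mem_toFinset] at hl
    exact hl
  refine ⟨A₁, h1, conj_W_le fun P hP c hc => h3 (c, P) ?_, h4, h5⟩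
  rw [Set.Finite.mem_toFinset]
  exact ⟨hc, hP⟩

/-- **THEOREM JQ, core**: if all `A ≥ W`, `A` elementary abelian of maximal order in `N`, lie in `N^p` for all
`p ∈ P ∈ F`, then all `W_x` in the component commute. -/
theorem core [Finite G] {p : ℕ} [Fact p.Prime] {S : Sylow p G} (D : Geo (S : Subgroup G) Z C F)
    (K : Nrm Z C N F)
    (f0 : ∀ A : Subgroup G, MxIn N A → W Z C F ≤ A → ∀ P ∈ F, ∀ p ∈ P, A ≤ MulAut.conj p • N) (k : ℕ) :
    ∀ x y, Path C F k x y → Com Z C F x y ∧ ∃ A, MxIn (MulAut.conj x • N) A ∧ MxIn (MulAut.conj y • N) A ∧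
      MulAut.conj x • W Z C F ≤ A ∧ MulAut.conj y • W Z C F ≤ A := by
  -- the supposition at an arbitrary point
  have f1 : ∀ (u : G) (A : Subgroup G), MxIn (MulAut.conj u • N) A → MulAut.conj u • W Z C F ≤ A →
      ∀ P ∈ F, ∀ p ∈ P, ∀ c ∈ C, A ≤ MulAut.conj (u * p * c) • N := by
    intro u A hA hWA P hP p hp c hc
    rw [K.conj_eq hc, ← conj_conj]
    have h1 : W Z C F ≤ MulAut.conj u⁻¹ • A := by
      have := conj_le_iff (g := u⁻¹) |>.2 hWA
      rwa [conj_conj, inv_mul_cancel, map_one, one_smul] at this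
    have h2 := conj_le_iff (g := u) |>.2 (f0 _ hA.conj_inv h1 P hP p hp)
    rwa [conj_conj, mul_inv_cancel, map_one, one_smul] at h2
  induction k with
  | zero =>
    intro x y h
    rcases h with @⟨_, c, hc⟩ | _
    obtain ⟨A, hA⟩ := exists_mxIn (MulAut.conj x • N)
    obtain ⟨A₁, h1, h2, -, -⟩ := one D K hA
    have h3 : Com Z C F x (x * c) := by
      unfold Com
      rw [W_mul hc]
      exact D.W_comm' x
    refine ⟨h3, A₁, h1, ?_, h2, ?_⟩
    · rwa [K.conj_eq hc]
    · rwa [W_mul hc]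
  | succ k ih =>
    -- the end `b` of a path from `a`: a member over `W_a` lies in `N_b`
    have step : ∀ a b, Path C F (k + 1) a b → ∃ A, MxIn (MulAut.conj a • N) A ∧
        MulAut.conj a • W Z C F ≤ A ∧ A ≤ MulAut.conj b • N := by
      intro a b h
      rcases h with _ | @⟨_, _, u, p, c, P, hu, hP, hp, hc⟩
      obtain ⟨-, A, hA, hAu, haA, huA⟩ := ih a u hu
      exact ⟨A, hA, haA, f1 u A hAu huA P hP p hp c hc⟩
    intro x y h
    obtain ⟨A, hA, hxA, hAy⟩ := step x y h
    obtain ⟨A', hA', hyA', hAx'⟩ := step y x h.symm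
    have hcom : Com Z C F x y := by
      by_contra hcon
      obtain ⟨P, hP, P', hP', c, hc, d, hd, hne⟩ := Geo.exists_lines hcon
      apply hne
      refine noff_lines D.toSys hP hP' ?_ ?_
      · exact ((conj_line_le hP x hc).trans (hxA.trans hAy)).trans (K.line_fix y hP' hd)
      · exact ((conj_line_le hP' y hd).trans (hyA'.trans hAx')).trans (K.line_fix x hP hc)
    obtain ⟨A₁, h1, h2, h3, h4⟩ := one D K (hA.of_le hAy)
    have h5 : A₁ ≤ MulAut.conj x • N := h4.trans (sup_le hA.2.1 (hyA'.trans hAx'))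
    exact ⟨hcom, A₁, h1.of_le h5, h1, (le_inf hxA hcom).trans h3, h2⟩

/-- **THEOREM JQ.** -/
theorem thmJQ [Finite G] {p : ℕ} [Fact p.Prime] {S : Sylow p G} (D : Geo (S : Subgroup G) Z C F)
    (hF : F.Nonempty) (hZ : Z ≠ ⊥)
    (hloc : ∀ U : Subgroup G, IsPGroup 2 U → (∀ P ∈ F, P ≤ normalizer (U : Set G)) →
      C ≤ normalizer (U : Set G) → U = ⊥) (K : Nrm Z C N F) :
    ∃ A : Subgroup G, MxIn N A ∧ W Z C F ≤ A ∧ ∃ P ∈ F, ∃ p ∈ P, ¬ A ≤ MulAut.conj p • N := by
  by_contra hcon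
  push Not at hcon
  obtain ⟨U, hU2, -, hU, hU1, hU3⟩ := D.exists_local hF hZ fun k x y h =>
    (core D K hcon k x y h).1
  exact hU (hloc U (fun u => ⟨1, Subtype.ext (by simpa using hU2 u u.2)⟩) hU1 hU3)

end Cfsg.Agent.Omega.NoFF.ThmJQ
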