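import Cfsg.Agent.Omega.VP
import Cfsg.Agent.Omega.NoFF.Lines
import Cfsg.Agent.Lib.NormalAbelian

/-!
# Case NOFF: the cases NO-1', NO-3S and NO-3L (#11758, #11889, #12149, MASTER v5.1 #12237)

`S` a Sylow 2-subgroup of `G` of characteristic 2 type, no mutual pair (`¬ FF S`), `|M(S)| ≠ 1`,
`C = C_G(Ω₁(Z(S)))` (`CC S`), `Q = O₂(C)`.

* `sys` : the system of the `V_P`, `P ∈ P*(S)`, satisfies `NoFF.Basic.Sys`;
* `geo` : all `V_P ≤ Q`: the geometry `Lines.Geo`, for every subset `F` of `P*(S)`;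
* `alt` : one of
  - NO-1': `P ∈ P*(S)`, `V_P ≰ Q`, `(P, C)` nonlocal, `C_{V_P}(O²(P)) = 1`;
  - NO-3S: all `V_P ≤ Q`, `P ∈ P*(S)`, `(P, C)` nonlocal, `C_{V_P}(O²(P)) = 1`, geometry and critical pair for
    the lines `(V_P)^g`;
  - NO-3L: all `V_P ≤ Q`, `(P, C)` local for all `P ∈ P*(S)`, geometry and critical pair for all lines.
-/

set_option autoImplicit false

namespace Cfsg.Agent.Omega.NoFF.LinesPlug

open Subgroup Cfsg Cfsg.Agent.ZN Cfsg.Agent.Omega.MinPar Cfsg.Agent.MinSimple.VModule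
open Cfsg.Agent.Omega Cfsg.Agent.Omega.NoFF.Basic Cfsg.Agent.Omega.NoFF.Lines
open scoped Pointwise

variable {G : Type*} [Group G]

/-- `P*(S)` as a set. -/
def PStar (S : Subgroup G) : Set (Subgroup G) := {P | IsParS S P}

/-- `C_G(Ω₁(Z(S)))` -/
abbrev CC (S : Subgroup G) : Subgroup G := centralizer (zc S : Set G)

theorem V_eq (S P : Subgroup G) : V (zc S) P = zl S P := rfl

/-- `P = O²(P) S`. -/
theorem oddGen_sup [Finite G] {P S : Subgroup G} (hSP : S ≤ P) (hSyl : ¬ 2 ∣ S.relIndex P) :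
    oddGen P ⊔ S = P := by
  have : Fact (Nat.Prime 2) := ⟨Nat.prime_two⟩
  apply le_antisymm (sup_le (oddGen_le P) hSP)
  have hN : ((oddGen P).subgroupOf P).Normal := normal_subgroupOf_of_le_normalizer (le_normalizer_oddGen P)
  have h1 : IsPGroup 2 (P ⧸ (oddGen P).subgroupOf P) := by
    intro q
    obtain ⟨x, rfl⟩ := QuotientGroup.mk_surjective q
    obtain ⟨a, m, hm, ha⟩ := Nat.exists_eq_pow_mul_and_not_dvd (orderOf_pos (x : G)).ne' 2 (by norm_num)
    refine ⟨a, ?_⟩
    rw [← QuotientGroup.mk_pow, QuotientGroup.eq_one_iff, mem_subgroupOf]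
    refine mem_oddGen (P.pow_mem x.2 _) ?_
    have hm0 : 0 < m := Nat.pos_of_ne_zero (by rintro rfl; simp at hm)
    have h2 : orderOf ((x : G) ^ 2 ^ a) = m := by
      rw [orderOf_pow_of_dvd (by positivity) (ha ▸ Dvd.intro _ rfl), ha, Nat.mul_div_cancel_left _ (by positivity)]
    rw [coe_pow, h2]
    exact Nat.not_even_iff_odd.1 fun h => hm h.two_dvd
  obtain ⟨k, hk⟩ := IsPGroup.iff_card.1 h1
  have h2 : (oddGen P ⊔ S).relIndex P ∣ 2 ^ k := by
    have h3 : (oddGen P ⊔ S).relIndex P ∣ (oddGen P).relIndex P := relIndex_dvd_of_le_left _ le_sup_left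
    have h4 : (oddGen P).relIndex P = 2 ^ k := by
      rw [← hk, relIndex, index_eq_card]
    rwa [h4] at h3
  obtain ⟨j, -, hj⟩ := (Nat.dvd_prime_pow Nat.prime_two).1 h2
  have h5 : (oddGen P ⊔ S).relIndex P ∣ S.relIndex P := relIndex_dvd_of_le_left _ le_sup_right
  rw [hj] at h5
  rcases Nat.eq_zero_or_pos j with rfl | hj0
  · rw [pow_zero] at hj
    exact relIndex_eq_one.1 hj
  · exact absurd ((dvd_pow_self 2 hj0.ne').trans h5) hSyl

/-- A nontrivial subgroup of `S` normalised by the `2`-group `S` meets `Z(S)`. -/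
theorem exists_fixed {S N : Subgroup G} [Finite G] (hS : IsPGroup 2 S) (hN : N ≤ S)
    (hS' : S ≤ normalizer (N : Set G)) (hne : N ≠ ⊥) : ∃ x ∈ N, x ≠ 1 ∧ ∀ s ∈ S, s * x = x * s := by
  have : Fact (Nat.Prime 2) := ⟨Nat.prime_two⟩
  have hnil : Group.IsNilpotent S := hS.isNilpotent
  have hn : (N.subgroupOf S).Normal := normal_subgroupOf_of_le_normalizer hS'
  have h1 : N.subgroupOf S ≠ ⊥ := by
    intro h
    rw [subgroupOf_eq_bot, disjoint_iff, inf_eq_left.2 hN] at h
    exact hne h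
  have h2 := Lib.NormalAbelian.normal_inf_center_ne_bot _ h1
  obtain ⟨x, hx, hx1⟩ := (Subgroup.ne_bot_iff_exists_ne_one.1 h2).imp fun a ha => (⟨a.2, ha⟩ : _ ∧ _)
  obtain ⟨x, hx'⟩ := x
  refine ⟨x, hx.1, fun h => hx1 (Subtype.ext (Subtype.ext h)), fun s hs => ?_⟩
  have := mem_center_iff.1 hx.2 ⟨s, hs⟩
  exact congrArg Subtype.val this

variable [Finite G]

theorem o2_le_conj (S : Sylow 2 G) {L : Subgroup G} (h : IsLoc (S : Subgroup G) L) {c : G} (hc : c ∈ L) :
    o2 L ≤ MulAut.conj c • (S : Subgroup G) := by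
  intro x hx
  rw [Basic.mem_conj]
  have h1 := (mem_normalizer_iff.1 (le_normalizer_o2 L (L.inv_mem hc)) x).1 hx
  rw [inv_inv] at h1
  exact h.o2_le S h1

/-- The system of the modules `V_P`, `P ∈ P*(S)`. -/
theorem sys (hG : IsCharacteristicTwoType G) (S : Sylow 2 G) (hF : ¬ FF (S : Subgroup G)) :
    Sys (S : Subgroup G) (zc (S : Subgroup G)) (PStar (S : Subgroup G)) where
  ZS := zc_le _
  cent := le_centralizer_zc _
  SP _ hP := (IsParS.isLoc hP).le
  abel P hP := by
    have h1 := (IsParS.isLoc hP).zl_le S hG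
    intro x hx
    rw [mem_centralizer_iff]
    intro y hy
    exact zc_comm _ _ (h1 hy) _ (h1 hx)
  core P hP p hp x hx hxc := by
    have h1 := hP.inf_centralizer S hG
    have h2 : x ∈ o2 P := h1 ▸ ⟨hx, hxc⟩
    exact o2_le_conj S (IsParS.isLoc hP) hp h2
  noff P hP P' hP' g h1 h2 := by
    have hn : ∀ P, P ≤ normalizer (zl (S : Subgroup G) P : Set G) := fun P => le_normalizer_zl _ _
    have h3 := commute_of_not_FF hF hP hP' g
      (by
        rw [Main.normalizer_conj]
        exact h1.trans (Basic.conj_le_iff.2 (hn P'))) (h2.trans (hn P))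
    rw [commutator_eq_bot_iff_le_centralizer] at h3
    exact h3

omit [Finite G] in
theorem _root_.Cfsg.Agent.Omega.NoFF.Basic.Sys.mono {S Z : Subgroup G} {F F' : Set (Subgroup G)}
    (D : Sys S Z F) (h : F' ⊆ F) : Sys S Z F' where
  ZS := D.ZS
  cent := D.cent
  SP P hP := D.SP P (h hP)
  abel P hP := D.abel P (h hP)
  core P hP := D.core P (h hP)
  noff P hP P' hP' := D.noff P (h hP) P' (h hP')

/-- **NO-3**: the geometry, for every subset `F` of `P*(S)`. -/
theorem geo (hG : IsCharacteristicTwoType G) (S : Sylow 2 G) (hS : (S : Subgroup G) ≠ ⊥)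
    (hF : ¬ FF (S : Subgroup G)) {F : Set (Subgroup G)} (hFP : F ⊆ PStar (S : Subgroup G))
    (hlow : ∀ P ∈ F, zl (S : Subgroup G) P ≤ o2 (CC (S : Subgroup G))) :
    Geo (S : Subgroup G) (zc (S : Subgroup G)) (CC (S : Subgroup G)) F where
  toSys := (sys hG S hF).mono hFP
  CZ := centralizer_le_normalizer _
  cen := le_rfl
  low P hP _ hc := (hlow P hP).trans (o2_le_conj S (isLoc_centralizer_zc S hS) hc)
  Zsq := zc_sq _

/-- **NO-1'**: `V_P ≰ O₂(C)` gives a nonlocal pair. -/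
theorem nonLoc (hG : IsCharacteristicTwoType G) (S : Sylow 2 G) {P : Subgroup G}
    (hP : IsParS (S : Subgroup G) P)
    (hlow : ¬ zl (S : Subgroup G) P ≤ o2 (CC (S : Subgroup G))) :
    NonLoc P (CC (S : Subgroup G)) := by
  by_contra hcon
  rw [not_nonLoc_iff S hP.le] at hcon
  refine hlow (le_trans ?_ (o2_le_o2 S (le_centralizer_zc _)
    (le_sup_right : _ ≤ P ⊔ CC (S : Subgroup G))))
  refine le_trans ?_ ((hcon.zl_le S hG).trans (zc_le _))
  exact MinSimple.VModule.zl_le (zc_le_zl _ _) (le_sup_left.trans (le_normalizer_zl _ _))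

omit [Finite G] in
/-- A nonlocal pair `(P, C)` has `C_{Ω₁Z(S)}(P) = 1`. -/
theorem inf_eq_bot (S : Sylow 2 G) {P : Subgroup G} (h : NonLoc P (CC (S : Subgroup G))) :
    zc (S : Subgroup G) ⊓ centralizer (P : Set G) = ⊥ := by
  refine h _ ((S.isPGroup'.to_le (zc_le _)).to_le inf_le_left) ?_ ?_
  · refine le_trans ?_ (centralizer_le_normalizer _)
    exact le_centralizer_iff.1 inf_le_right
  · refine le_trans ?_ (centralizer_le_normalizer _)
    exact centralizer_le (inf_le_left : zc (S : Subgroup G) ⊓ centralizer (P : Set G) ≤ _)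

omit [Finite G] in
theorem normalizer_le_normalizer_centralizer' (B : Subgroup G) :
    normalizer (B : Set G) ≤ normalizer ((centralizer (B : Set G) : Subgroup G) : Set G) := by
  have key : ∀ g ∈ normalizer (B : Set G), ∀ x ∈ centralizer (B : Set G), g * x * g⁻¹ ∈ centralizer (B : Set G) := by
    intro g hg x hx
    rw [mem_centralizer_iff] at hx ⊢
    intro b hb
    have h1 : g⁻¹ * b * g ∈ B := by
      have := (mem_normalizer_iff.1 (inv_mem hg) b).1 hb
      rwa [inv_inv] at this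
    have h4 := congrArg (fun t => g * t * g⁻¹) (hx _ h1)
    simpa [mul_assoc] using h4
  intro g hg
  rw [mem_normalizer_iff]
  refine fun x => ⟨key g hg x, fun hx => ?_⟩
  have := key g⁻¹ (inv_mem hg) _ hx
  have e : g⁻¹ * (g * x * g⁻¹) * g⁻¹⁻¹ = x := by group
  rwa [e] at this

/-- A nonlocal pair `(P, C)` has `C_{V_P}(O²(P)) = 1`. -/
theorem inf_oddGen_eq_bot (hG : IsCharacteristicTwoType G) (S : Sylow 2 G) {P : Subgroup G}
    (hP : IsPar (S : Subgroup G) P) (h : zc (S : Subgroup G) ⊓ centralizer (P : Set G) = ⊥) :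
    zl (S : Subgroup G) P ⊓ centralizer (oddGen P : Set G) = ⊥ := by
  by_contra hne
  have hle := (hP.isLoc.zl_le S hG).trans (zc_le _)
  have hVS : zl (S : Subgroup G) P ≤ (S : Subgroup G) := hle.trans (hP.isLoc.o2_le S)
  have hSP := hP.isLoc.le
  have hn : (S : Subgroup G) ≤ normalizer
      ((zl (S : Subgroup G) P ⊓ centralizer (oddGen P : Set G) : Subgroup G) : Set G) := by
    have h1 : P ≤ normalizer (zl (S : Subgroup G) P : Set G) := le_normalizer_zl _ _
    have h2 : P ≤ normalizer ((centralizer (oddGen P : Set G) : Subgroup G) : Set G) :=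
      (le_normalizer_oddGen P).trans (normalizer_le_normalizer_centralizer' _)
    intro s hs
    rw [mem_normalizer_iff]
    intro x
    have h3 := mem_normalizer_iff.1 (h1 (hSP hs)) x
    have h4 := mem_normalizer_iff.1 (h2 (hSP hs)) x
    exact ⟨fun hx => ⟨h3.1 hx.1, h4.1 hx.2⟩, fun hx => ⟨h3.2 hx.1, h4.2 hx.2⟩⟩
  obtain ⟨x, hx, hx1, hxS⟩ := exists_fixed S.isPGroup' (inf_le_left.trans hVS) hn hne
  apply hx1
  have h5 : x ∈ zc (S : Subgroup G) ⊓ centralizer (P : Set G) := by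
    refine ⟨mem_zc.2 ⟨hVS hx.1, hxS, zc_sq _ _ (hP.isLoc.zl_le S hG hx.1)⟩, ?_⟩
    have h6 : P ≤ centralizer ({x} : Set G) := by
      conv_lhs => rw [← oddGen_sup hSP (MinSimple.Basic.not_dvd_relIndex S hSP)]
      refine sup_le (fun y hy => ?_) (fun y hy => ?_)
      · rw [mem_centralizer_singleton_iff]
        exact mem_centralizer_iff.1 hx.2 y hy
      · rw [mem_centralizer_singleton_iff]
        exact hxS y hy
    exact mem_centralizer_iff.2 fun y hy => mem_centralizer_singleton_iff.1 (h6 hy)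
  rw [h] at h5
  exact mem_bot.1 h5

/-- `P ∈ P(S)` not in `P*(S)` centralises `Ω₁(Z(S))`. -/
theorem le_CC (S : Sylow 2 G) {P : Subgroup G} (hP : IsPar (S : Subgroup G) P)
    (h : P ≤ normalizer (zc (S : Subgroup G) : Set G)) : P ≤ CC (S : Subgroup G) := by
  have hSP := hP.isLoc.le
  have hSC : (S : Subgroup G) ≤ CC (S : Subgroup G) := le_centralizer_zc _
  have hn : P ≤ normalizer ((P ⊓ CC (S : Subgroup G) : Subgroup G) : Set G) := by
    have h2 := h.trans (normalizer_le_normalizer_centralizer' _)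
    intro s hs
    rw [mem_normalizer_iff]
    intro x
    have h3 := mem_normalizer_iff.1 (le_normalizer hs : s ∈ normalizer (P : Set G)) x
    have h4 := mem_normalizer_iff.1 (h2 hs) x
    exact ⟨fun hx => ⟨h3.1 hx.1, h4.1 hx.2⟩, fun hx => ⟨h3.2 hx.1, h4.2 hx.2⟩⟩
  rcases hP.sup_eq_or_inf_le S inf_le_left hn with h1 | h1
  · rw [sup_eq_left.2 (le_inf hSP hSC)] at h1
    exact h1 ▸ inf_le_right
  · exfalso
    have h5 : (S : Subgroup G) = o2 P :=
      le_antisymm ((le_inf le_rfl (le_inf hSP hSC)).trans h1) (hP.isLoc.o2_le S)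
    exact hP.not_le (h5 ▸ le_normalizer_o2 P)

/-- `C` and the members of `P*(S)` do not normalise a common nontrivial 2-subgroup. -/
theorem eq_bot_of_le (S : Sylow 2 G) (hM : ¬ OneMax (S : Subgroup G)) (U : Subgroup G) (hU : IsPGroup 2 U)
    (h1 : ∀ P ∈ PStar (S : Subgroup G), P ≤ normalizer (U : Set G))
    (h2 : CC (S : Subgroup G) ≤ normalizer (U : Set G)) : U = ⊥ := by
  -- `X = ⟨P*(S), C⟩` is normalised by `N_G(S)`
  set X : Subgroup G := CC (S : Subgroup G) ⊔ sSup (PStar (S : Subgroup G)) with hX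
  have hXU : X ≤ normalizer (U : Set G) := sup_le h2 (sSup_le h1)
  have hSX : (S : Subgroup G) ≤ X := (le_centralizer_zc _).trans le_sup_left
  have hUX : U ≤ o2 X :=
    le_o2 ((le_of_le_normalizer S hU (hSX.trans hXU)).trans hSX) hU hXU
  have hconj : ∀ n ∈ normalizer ((S : Subgroup G) : Set G), MulAut.conj n • X ≤ X := by
    intro n hn
    have hnS : (S : Subgroup G).map (MulAut.conj n).toMonoidHom = S := mem_normalizer_iff_map_conj_eq.1 hn
    have hnZ : MulAut.conj n • zc (S : Subgroup G) = zc (S : Subgroup G) :=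
      Main.conj_eq_of_mem_normalizer (normalizer_le_normalizer_zc _ hn)
    rw [hX, Subgroup.smul_sup]
    refine sup_le (le_trans ?_ le_sup_left) (le_trans ?_ le_sup_right)
    · intro x hx
      rw [Basic.mem_conj] at hx
      rw [mem_centralizer_iff] at hx ⊢
      intro z hz
      have h3 : n⁻¹ * z * n ∈ zc (S : Subgroup G) := by
        rw [← Basic.mem_conj, hnZ]
        exact hz
      have h4 := congrArg (fun t => n * t * n⁻¹) (hx _ h3)
      simpa [mul_assoc] using h4
    · rw [Subgroup.pointwise_smul_subset_iff]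
      refine sSup_le fun P hP => ?_
      rw [← Subgroup.pointwise_smul_subset_iff]
      refine le_sSup (α := Subgroup G) (a := MulAut.conj n • P) ?_
      have h5 := IsParS.map (MulAut.conj n) hP
      have h6 : (S : Subgroup G).map (MulAut.conj n).toMonoidHom = S := hnS
      rw [h6] at h5
      exact h5
  have hnX : normalizer ((S : Subgroup G) : Set G) ≤ normalizer (X : Set G) := by
    intro n hn
    exact mem_normalizer_of_map_le (hconj n hn)
  have h3 := o2_sSup_eq_bot S hM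
  rw [eq_bot_iff, ← h3]
  refine hUX.trans (le_o2 ?_ (o2_isPGroup _) (sup_le (hnX.trans ?_) (sSup_le fun P hP => ?_)))
  · exact (o2_le_of_sylow S.isPGroup' (MinSimple.Basic.not_dvd_relIndex S hSX)).trans
      (le_sup_of_le_left le_normalizer)
  · exact normalizer_le_normalizer_o2' X
  · by_cases h4 : P ≤ normalizer (zc (S : Subgroup G) : Set G)
    · exact (le_CC S hP h4).trans (le_sup_left.trans (le_normalizer_o2 X))
    · exact (le_sSup (show P ∈ PStar (S : Subgroup G) from ⟨hP, h4⟩)).trans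
        (le_sup_right.trans (le_normalizer_o2 X))

/-- `P*(S)` is nonempty. -/
theorem nonempty (S : Sylow 2 G) (hS : (S : Subgroup G) ≠ ⊥) (hM : ¬ OneMax (S : Subgroup G)) :
    (PStar (S : Subgroup G)).Nonempty := by
  by_contra hcon
  rw [Set.not_nonempty_iff_eq_empty] at hcon
  refine MinSimple.Basic.zc_ne_bot S.isPGroup' hS (eq_bot_of_le S hM _ (S.isPGroup'.to_le (zc_le _)) ?_
    (centralizer_le_normalizer _))
  intro P hP
  rw [hcon] at hP
  exact absurd hP (Set.notMem_empty P)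

/-- **NO-1'** -/
structure NoOne (S P : Subgroup G) : Prop where
  star : IsParS S P
  not_le : ¬ zl S P ≤ o2 (CC S)
  nonLoc : NonLoc P (CC S)
  cen : zl S P ⊓ centralizer (oddGen P : Set G) = ⊥

/-- **NO-3S** -/
structure NoThreeS (S P : Subgroup G) (n : ℕ) (y : G) : Prop where
  le : ∀ P, IsParS S P → zl S P ≤ o2 (CC S)
  star : IsParS S P
  nonLoc : NonLoc P (CC S)
  cen : zl S P ⊓ centralizer (oddGen P : Set G) = ⊥
  geo : Geo S (zc S) (CC S) {P}
  pos : 1 ≤ n
  crit : Crit (zc S) (CC S) {P} n 1 y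

/-- **NO-3L** -/
structure NoThreeL (S : Subgroup G) (n : ℕ) (y : G) : Prop where
  le : ∀ P, IsParS S P → zl S P ≤ o2 (CC S)
  loc : ∀ P, IsParS S P → IsLoc S (P ⊔ CC S)
  geo : Geo S (zc S) (CC S) (PStar S)
  pos : 1 ≤ n
  crit : Crit (zc S) (CC S) (PStar S) n 1 y

/-- **The three cases of NOFF.** -/
theorem alt (hG : IsCharacteristicTwoType G) (S : Sylow 2 G) (hS : (S : Subgroup G) ≠ ⊥)
    (hF : ¬ FF (S : Subgroup G)) (hM : ¬ OneMax (S : Subgroup G)) :
    (∃ P, NoOne (S : Subgroup G) P) ∨ (∃ P n y, NoThreeS (S : Subgroup G) P n y) ∨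
      ∃ n y, NoThreeL (S : Subgroup G) n y := by
  have hZ := MinSimple.Basic.zc_ne_bot S.isPGroup' hS
  by_cases h : ∀ P, IsParS (S : Subgroup G) P → zl (S : Subgroup G) P ≤ o2 (CC (S : Subgroup G))
  · right
    by_cases h2 : ∃ P, IsParS (S : Subgroup G) P ∧ NonLoc P (CC (S : Subgroup G))
    · left
      obtain ⟨P, hP, hPn⟩ := h2
      have hD := geo hG S hS hF (F := {P}) (Set.singleton_subset_iff.2 hP)
        (by rintro Q rfl; exact h Q hP)
      obtain ⟨n, hn, y, hy⟩ := hD.exists_crit (Set.singleton_nonempty P) hZ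
        fun U hU h1 h3 => hPn U hU (h1 P rfl) h3
      exact ⟨P, n, y, h, hP, hPn, inf_oddGen_eq_bot hG S hP.toIsPar (inf_eq_bot S hPn), hD, hn, hy⟩
    · right
      push Not at h2
      have hD := geo hG S hS hF (F := PStar (S : Subgroup G)) le_rfl h
      obtain ⟨n, hn, y, hy⟩ := hD.exists_crit (nonempty S hS hM) hZ (eq_bot_of_le S hM)
      exact ⟨n, y, h, fun P hP => (not_nonLoc_iff S hP.isLoc.le).1 (h2 P hP), hD, hn, hy⟩
  · left
    push Not at h
    obtain ⟨P, hP, h1⟩ := h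
    have hPn := nonLoc hG S hP h1
    exact ⟨P, hP, h1, hPn, inf_oddGen_eq_bot hG S hP.toIsPar (inf_eq_bot S hPn)⟩

end Cfsg.Agent.Omega.NoFF.LinesPlug
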