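import Cfsg.Agent.Omega.NoFF.Lines
import Cfsg.Agent.ZN.Defs

/-!
# Case NO-3' : `J(S)` is not contained in the kernel on the lines (THEOREM J*, #12949, #13136)

`Geo S Z C F` (all lines on the point `Z` are contained in all Sylow subgroups of `C`), `N` a normal
subgroup of `C` which normalises all `V_P`, `P ∈ F`, no `V_P` has an over-offender in `S`.
If there is a critical pair, then `S` contains an elementary abelian subgroup of maximal order
(among all elementary abelian 2-subgroups of `G`) which is not contained in `N`.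
-/

set_option autoImplicit false

namespace Cfsg.Agent.Omega.NoFF.ThmJ

open Subgroup Cfsg Cfsg.Agent Cfsg.Agent.Omega.NoFF.Basic Cfsg.Agent.Omega.NoFF.Lines
open Cfsg.Agent.ZN (jj)
open scoped Pointwise

variable {G : Type*} [Group G]

/-- Elementary abelian 2-subgroup. -/
structure EA (A : Subgroup G) : Prop where
  comm : A ≤ centralizer (A : Set G)
  sq : ∀ a ∈ A, a ^ 2 = 1

/-- Elementary abelian 2-subgroup of maximal order. -/
structure MaxEA (A : Subgroup G) : Prop extends EA A where
  max : ∀ B : Subgroup G, EA B → Nat.card B ≤ Nat.card A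

/-- No over-offender on `V` in `S`. -/
def NoOver (S V : Subgroup G) : Prop :=
  ∀ A : Subgroup G, A ≤ S → EA A →
    Nat.card A * Nat.card (V ⊓ centralizer (A : Set G) : Subgroup G) ≤
      Nat.card V * Nat.card (A ⊓ centralizer (V : Set G) : Subgroup G)

theorem EA.conj {A : Subgroup G} (h : EA A) (g : G) : EA (MulAut.conj g • A) :=
  ⟨conj_le_centralizer h.comm, Geo.conj_sq h.sq g⟩

theorem EA.mono {A B : Subgroup G} (h : EA A) (hB : B ≤ A) : EA B :=
  ⟨comm_mono h.comm hB hB, fun b hb => h.sq b (hB hb)⟩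

theorem EA.sup {A B : Subgroup G} (hA : EA A) (hB : EA B) (h : A ≤ centralizer (B : Set G)) : EA (A ⊔ B) := by
  have hc : A ⊔ B ≤ centralizer ((A ⊔ B : Subgroup G) : Set G) := by
    refine sup_le (comm_symm (sup_le hA.comm (comm_symm h))) (comm_symm (sup_le h hB.comm))
  refine ⟨hc, ?_⟩
  exact Geo.sq_of_comm hc (B := fun b : Bool => if b then A else B)
    (fun b => by cases b <;> simp) (sup_le (le_iSup_of_le true (by simp)) (le_iSup_of_le false (by simp)))
    (fun b => by cases b <;> simp <;> [exact fun x hx => hB.sq x hx; exact fun x hx => hA.sq x hx])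

theorem card_conj (g : G) (A : Subgroup G) : Nat.card (MulAut.conj g • A : Subgroup G) = Nat.card A :=
  Nat.card_congr (Subgroup.equivSMul (MulAut.conj g) A).toEquiv.symm

theorem MaxEA.conj {A : Subgroup G} (h : MaxEA A) (g : G) : MaxEA (MulAut.conj g • A) :=
  ⟨h.toEA.conj g, fun B hB => by rw [card_conj]; exact h.max B hB⟩

theorem EA.isPGroup {A : Subgroup G} (h : EA A) : IsPGroup 2 A := fun a =>
  ⟨1, Subtype.ext (by simpa using h.sq a a.2)⟩

theorem card_mul_relIndex {H K : Subgroup G} (h : H ≤ K) :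
    Nat.card H * H.relIndex K = Nat.card K := by
  rw [Subgroup.relIndex, ← Nat.card_congr (Subgroup.subgroupOfEquivOfLe h).toEquiv]
  exact Subgroup.card_mul_index _

/-- `|K H| |K ∩ H| = |K| |H|` -/
theorem card_sup_mul {K H : Subgroup G} (h' : H ≤ normalizer (K : Set G)) :
    Nat.card (K ⊔ H : Subgroup G) * Nat.card (K ⊓ H : Subgroup G) = Nat.card K * Nat.card H := by
  have hKn : (K.subgroupOf (K ⊔ H)).Normal :=
    normal_subgroupOf_of_le_normalizer (sup_le le_normalizer h')
  have h1 := relIndex_sup_left (H.subgroupOf (K ⊔ H)) (K.subgroupOf (K ⊔ H))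
  rw [← Subgroup.subgroupOf_sup le_sup_left le_sup_right, Subgroup.subgroupOf_self,
    Subgroup.relIndex_subgroupOf le_sup_right, relIndex_top_right] at h1
  have h2 : Nat.card K * K.relIndex H = Nat.card (K ⊔ H : Subgroup G) := by
    rw [← h1]
    exact card_mul_relIndex le_sup_left
  have h3 : Nat.card (K ⊓ H : Subgroup G) * K.relIndex H = Nat.card H := by
    rw [← inf_relIndex_right]
    exact card_mul_relIndex inf_le_right
  rw [← h2, ← h3]
  ring

theorem MaxEA.of_card {A B : Subgroup G} (h : MaxEA A) (hB : EA B) (hc : Nat.card A ≤ Nat.card B) : MaxEA B :=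
  ⟨hB, fun C hC => (h.max C hC).trans hc⟩

variable [Finite G]

/-- A group of involutions centralising `A` lies in `A`. -/
theorem MaxEA.le_of_centralizer {A B : Subgroup G} (h : MaxEA A) (hB : EA B)
    (hc : B ≤ centralizer (A : Set G)) : B ≤ A := by
  have h1 : EA (A ⊔ B) := h.toEA.sup hB (comm_symm hc)
  have h2 := h.max _ h1
  have h3 : A = A ⊔ B := Subgroup.eq_of_le_of_card_ge le_sup_left h2
  rw [h3]
  exact le_sup_right

variable (G) in
theorem exists_maxEA : ∃ A : Subgroup G, MaxEA A := by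
  classical
  obtain ⟨A, hA, hmax⟩ := (Set.toFinite {A : Subgroup G | EA A}).exists_maximalFor
    (fun A : Subgroup G => Nat.card A) _ ⟨⊥, ⟨bot_le, fun a ha => by simp [mem_bot.1 ha]⟩⟩
  refine ⟨A, hA, fun B hB => ?_⟩
  rcases le_total (Nat.card B) (Nat.card A) with h | h
  · exact h
  · exact hmax hB h

omit [Finite G] in
theorem inf_centralizer_conj (g : G) (A B : Subgroup G) :
    (MulAut.conj g • A) ⊓ centralizer ((MulAut.conj g • B : Subgroup G) : Set G) =
      MulAut.conj g • (A ⊓ centralizer (B : Set G)) := by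
  ext x
  rw [mem_inf, mem_conj, mem_conj, mem_inf, mem_centralizer_iff, mem_centralizer_iff]
  refine and_congr_right fun _ => ⟨fun h b hb => ?_, fun h b hb => ?_⟩
  · have h1 : g * b * g⁻¹ ∈ MulAut.conj g • B := by
      rw [mem_conj]; simpa [mul_assoc] using hb
    have h2 := congrArg (fun t => g⁻¹ * t * g) (h _ h1)
    simpa [mul_assoc] using h2
  · have hb' : b ∈ MulAut.conj g • B := hb
    rw [mem_conj] at hb'
    have h2 := congrArg (fun t => g * t * g⁻¹) (h _ hb')
    simpa [mul_assoc] using h2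

omit [Finite G] in
/-- no over-offender for conjugates -/
theorem NoOver.conj {S V : Subgroup G} (h : NoOver S V) {g : G} {A : Subgroup G}
    (hA : A ≤ MulAut.conj g • S) (hE : EA A) :
    Nat.card A * Nat.card ((MulAut.conj g • V) ⊓ centralizer (A : Set G) : Subgroup G) ≤
      Nat.card (MulAut.conj g • V : Subgroup G) *
        Nat.card (A ⊓ centralizer ((MulAut.conj g • V : Subgroup G) : Set G) : Subgroup G) := by
  obtain ⟨B, rfl⟩ : ∃ B : Subgroup G, A = MulAut.conj g • B :=
    ⟨MulAut.conj g⁻¹ • A, by rw [conj_conj, mul_inv_cancel, map_one, one_smul]⟩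
  have h2 := h _ (conj_le_iff.1 hA) (by
    have := hE.conj g⁻¹
    rwa [conj_conj, inv_mul_cancel, map_one, one_smul] at this)
  rw [inf_centralizer_conj, inf_centralizer_conj, card_conj, card_conj, card_conj, card_conj]
  exact h2

/-- **Replacement**: `C_A(V) V` is again of maximal order. -/
theorem replace {A V : Subgroup G} (hA : MaxEA A) (hV : EA V)
    (h : Nat.card A * Nat.card (V ⊓ centralizer (A : Set G) : Subgroup G) ≤
      Nat.card V * Nat.card (A ⊓ centralizer (V : Set G) : Subgroup G)) :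
    MaxEA ((A ⊓ centralizer (V : Set G)) ⊔ V) := by
  have hE : EA ((A ⊓ centralizer (V : Set G)) ⊔ V) :=
    (hA.toEA.mono inf_le_left).sup hV inf_le_right
  refine hA.of_card hE ?_
  set B : Subgroup G := A ⊓ centralizer (V : Set G) with hB
  have h1 : Nat.card B * Nat.card V = Nat.card (B ⊔ V : Subgroup G) * Nat.card (B ⊓ V : Subgroup G) := by
    have hn : V ≤ normalizer (B : Set G) :=
      (comm_symm (inf_le_right : B ≤ centralizer (V : Set G))).trans (centralizer_le_normalizer _)
    exact (card_sup_mul hn).symm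
  have h4 : Nat.card (B ⊓ V : Subgroup G) ≤ Nat.card (V ⊓ centralizer (A : Set G) : Subgroup G) := by
    refine Subgroup.card_le_of_le ?_
    exact le_inf inf_le_right ((inf_le_left.trans inf_le_left).trans hA.comm)
  have h5 : Nat.card A * Nat.card (B ⊓ V : Subgroup G) ≤
      Nat.card (B ⊔ V : Subgroup G) * Nat.card (B ⊓ V : Subgroup G) := by
    rw [← h1, mul_comm (Nat.card B)]
    exact (Nat.mul_le_mul_left _ h4).trans h
  exact Nat.le_of_mul_le_mul_right h5 Nat.card_pos


/-! ### The setting -/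

/-- The hypotheses on the normal subgroup `N` of `C`. -/
structure Ker (Z C N : Subgroup G) (F : Set (Subgroup G)) : Prop where
  le : N ≤ C
  nor : C ≤ normalizer (N : Set G)
  line : ∀ P ∈ F, N ≤ normalizer (V Z P : Set G)

section

variable {Z C N : Subgroup G} {F : Set (Subgroup G)}

omit [Finite G] in
theorem conj_N (K : Ker Z C N F) {x c : G} (hc : c ∈ C) : MulAut.conj (x * c) • N = MulAut.conj x • N := by
  rw [← conj_conj, conj_eq (K.nor hc)]

omit [Finite G] in
/-- `N^x` normalises all lines on `x`. -/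
theorem norm_line (K : Ker Z C N F) {P : Subgroup G} (hP : P ∈ F) (x : G) {c : G} (hc : c ∈ C) :
    MulAut.conj x • N ≤ normalizer ((MulAut.conj (x * c) • V Z P : Subgroup G) : Set G) := by
  rw [← conj_N K hc, Main.normalizer_conj]
  exact conj_le_iff.2 (K.line P hP)

variable (S : Sylow 2 G) (D : Geo (S : Subgroup G) Z C F) (K : Ker Z C N F)
  (hSC : (S : Subgroup G) ≤ C)
include hSC K

/-- A 2-subgroup of `N^x` lies in `S^{x n}` for some `n ∈ N`. -/
theorem exists_le_conj_N {A : Subgroup G} (hA : IsPGroup 2 A) {x : G} (h : A ≤ MulAut.conj x • N) :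
    ∃ n ∈ N, A ≤ MulAut.conj (x * n) • (S : Subgroup G) := by
  -- `A^{x⁻¹} ≤ N`, and `S N` contains `S`
  have h1 : MulAut.conj x⁻¹ • A ≤ N := by
    have := conj_le_iff (g := x⁻¹) |>.2 h
    rwa [conj_conj, inv_mul_cancel, map_one, one_smul] at this
  have hNS : (S : Subgroup G) ≤ normalizer (N : Set G) := hSC.trans K.nor
  obtain ⟨m, hm, h2⟩ := Main.exists_le_conj S (M := N ⊔ S) le_sup_right
    (hA.map (MulAut.conj x⁻¹).toMonoidHom) (h1.trans le_sup_left)
  -- `m = n s`
  have h3 : m ∈ (N : Set G) * ((S : Subgroup G) : Set G) := by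
    rw [← Subgroup.coe_mul_of_right_le_normalizer_left N (S : Subgroup G) hNS]
    exact hm
  obtain ⟨n, hn, s, hs, rfl⟩ := Set.mem_mul.1 h3
  refine ⟨n, hn, ?_⟩
  rw [← conj_conj n s, conj_self (P := (S : Subgroup G)) hs] at h2
  have h4 := conj_le_iff (g := x) |>.2 h2
  change MulAut.conj x • (MulAut.conj x⁻¹ • A) ≤ _ at h4
  rwa [conj_conj, mul_inv_cancel, map_one, one_smul, conj_conj] at h4

variable (hJ : ∀ A : Subgroup G, MaxEA A → A ≤ S → A ≤ N)
include D hJ

/-- **(0)** `Z_x ≤ A` implies `A ≤ N^x`. -/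
theorem le_conj_N {A : Subgroup G} (hA : MaxEA A) {x : G} (hx : MulAut.conj x • Z ≤ A) :
    A ≤ MulAut.conj x • N := by
  have h1 : A ≤ MulAut.conj x • C := by
    refine (comm_mono hA.comm le_rfl hx).trans fun a ha => ?_
    rw [mem_conj]
    apply D.cen
    rw [mem_centralizer_iff]
    intro z hz
    have h1 : x * z * x⁻¹ ∈ MulAut.conj x • Z := by
      rw [mem_conj]
      simpa [mul_assoc] using hz
    have h2 := congrArg (fun t => x⁻¹ * t * x) (mem_centralizer_iff.1 ha _ h1)
    simpa [mul_assoc] using h2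
  have h2 : MulAut.conj x⁻¹ • A ≤ C := by
    have := conj_le_iff (g := x⁻¹) |>.2 h1
    rwa [conj_conj, inv_mul_cancel, map_one, one_smul] at this
  obtain ⟨c, hc, h3⟩ := Main.exists_le_conj S hSC
    (hA.isPGroup.map (MulAut.conj x⁻¹).toMonoidHom) h2
  change MulAut.conj x⁻¹ • A ≤ _ at h3
  have h4 : MulAut.conj c⁻¹ • (MulAut.conj x⁻¹ • A) ≤ S := by
    have := conj_le_iff (g := c⁻¹) |>.2 h3
    rwa [conj_conj c⁻¹ c, inv_mul_cancel, map_one, one_smul] at this
  have h5 := hJ _ ((hA.conj x⁻¹).conj c⁻¹) h4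
  have h6 := conj_le_iff (g := x * c) |>.2 h5
  rw [conj_conj, conj_conj, conj_N K hc] at h6
  have e : x * c * c⁻¹ * x⁻¹ = 1 := by group
  rwa [e, map_one, one_smul] at h6

variable (hV : ∀ P ∈ F, NoOver (S : Subgroup G) (V Z P))
include hV

/-- **(1)** `Z_x ≤ A` implies `W_x C_A(W_x) ≤ A₁` for some `A₁` of maximal order. -/
theorem exists_W {x : G} : ∀ n : ℕ, ∀ A : Subgroup G, MaxEA A → MulAut.conj x • Z ≤ A →
    Nat.card (MulAut.conj x • W Z C F : Subgroup G) ≤
      Nat.card (A ⊓ MulAut.conj x • W Z C F : Subgroup G) + n →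
    ∃ A₁ : Subgroup G, MaxEA A₁ ∧ MulAut.conj x • W Z C F ≤ A₁ ∧
      A ⊓ centralizer ((MulAut.conj x • W Z C F : Subgroup G) : Set G) ≤ A₁ := by
  intro n
  induction n with
  | zero =>
    intro A hA _ hc
    refine ⟨A, hA, ?_, inf_le_left⟩
    have := Subgroup.eq_of_le_of_card_ge inf_le_right hc
    rw [← this]
    exact inf_le_left
  | succ n ih =>
    intro A hA hZ hc
    by_cases hle : MulAut.conj x • W Z C F ≤ A
    · exact ⟨A, hA, hle, inf_le_left⟩
    -- a line on `x` not in `A`
    obtain ⟨P, hP, c, hc', hl⟩ : ∃ P ∈ F, ∃ c ∈ C, ¬ MulAut.conj (x * c) • V Z P ≤ A := by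
      by_contra hcon
      push Not at hcon
      exact hle (conj_W_le fun P hP c hc => hcon P hP c hc)
    have hlW : MulAut.conj (x * c) • V Z P ≤ MulAut.conj x • W Z C F := conj_line_le hP x hc'
    have hAN := le_conj_N S D K hSC hJ hA hZ
    rw [← conj_N K hc'] at hAN
    obtain ⟨m, hm, hAS⟩ := exists_le_conj_N S K hSC hA.isPGroup hAN
    have hmV : MulAut.conj (x * c * m) • V Z P = MulAut.conj (x * c) • V Z P := by
      rw [← conj_conj, conj_eq (K.line P hP hm)]
    have hEV : EA (MulAut.conj (x * c) • V Z P) := EA.conj ⟨D.abel P hP, D.V_sq hP⟩ _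
    have h1 := (hV P hP).conj hAS hA.toEA
    rw [hmV] at h1
    have h2 := replace hA hEV h1
    have h0 : MulAut.conj x • Z ≤ A ⊓ centralizer ((MulAut.conj (x * c) • V Z P : Subgroup G) : Set G) ⊔
        MulAut.conj (x * c) • V Z P := by
      refine le_trans ?_ le_sup_right
      have e : MulAut.conj x • Z = MulAut.conj (x * c * 1) • Z := by
        rw [mul_one, ← conj_conj, conj_eq (D.CZ hc')]
      rw [e]
      exact conj_Z_le P.one_mem
    have h5 : A ⊓ MulAut.conj x • W Z C F ≤
        (A ⊓ centralizer ((MulAut.conj (x * c) • V Z P : Subgroup G) : Set G) ⊔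
          MulAut.conj (x * c) • V Z P) ⊓ MulAut.conj x • W Z C F := by
      refine le_inf (le_trans (le_inf inf_le_left ?_) le_sup_left) inf_le_right
      exact comm_mono (D.W_comm' x) inf_le_right hlW
    have h6 : Nat.card (A ⊓ MulAut.conj x • W Z C F : Subgroup G) <
        Nat.card ((A ⊓ centralizer ((MulAut.conj (x * c) • V Z P : Subgroup G) : Set G) ⊔
          MulAut.conj (x * c) • V Z P) ⊓ MulAut.conj x • W Z C F : Subgroup G) := by
      by_contra hcon
      push Not at hcon
      have h7 := Subgroup.eq_of_le_of_card_ge h5 hcon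
      apply hl
      have h8 : MulAut.conj (x * c) • V Z P ≤ A ⊓ MulAut.conj x • W Z C F := by
        rw [h7]
        exact le_inf le_sup_right hlW
      exact h8.trans inf_le_left
    obtain ⟨A₁, hA₁, h3, h4⟩ := ih _ h2 h0 (by omega)
    refine ⟨A₁, hA₁, h3, ?_⟩
    refine le_trans (le_inf ?_ inf_le_right) h4
    exact le_trans (inf_le_inf_left _ (centralizer_le hlW)) le_sup_left

/-- **(2)** All `W_x`, `W_y` in a component commute, and `W_x W_y ≤ A` for some `A` of maximal order. -/
theorem all_com : ∀ d : ℕ, ∀ x y : G, Path C F d x y → Com Z C F x y ∧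
    ∃ A : Subgroup G, MaxEA A ∧ MulAut.conj x • W Z C F ≤ A ∧ MulAut.conj y • W Z C F ≤ A := by
  -- points exist
  intro d
  induction d with
  | zero =>
    intro x y h
    cases h with
    | zero _ hc =>
      refine ⟨?_, ?_⟩
      · unfold Com
        rw [W_mul hc]
        exact D.W_comm' x
      · obtain ⟨A, hA⟩ := exists_maxEA G
        obtain ⟨T, hT⟩ := hA.isPGroup.exists_le_sylow
        obtain ⟨g, hg⟩ := MulAction.exists_smul_eq G T S
        have h1 : MulAut.conj (x * g) • A ≤ MulAut.conj x • (S : Subgroup G) := by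
          rw [← conj_conj]
          apply conj_le_iff.2
          rw [← hg, Sylow.coe_subgroup_smul]
          exact conj_le_iff.2 hT
        have hA' := hA.conj (x * g)
        have hZ : MulAut.conj x • Z ≤ MulAut.conj (x * g) • A := by
          refine hA'.le_of_centralizer (EA.conj ⟨D.ZS.trans D.cent, D.Zsq⟩ x) ?_
          exact comm_symm (h1.trans (conj_le_centralizer D.cent))
        obtain ⟨A₁, hA₁, h2, -⟩ := exists_W S D K hSC hJ hV (x := x) _ _ hA' hZ (Nat.le_add_left _ _)
        exact ⟨A₁, hA₁, h2, by rw [W_mul hc]; exact h2⟩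
  | succ d ih =>
    intro x y h
    -- neighbours
    have key : ∀ x y, Path C F (d + 1) x y → ∃ u, Path C F d x u ∧
        MulAut.conj y • Z ≤ MulAut.conj u • W Z C F := by
      intro x y h
      cases h with
      | @step _ _ u p c P hu hP hp hc =>
        refine ⟨u, hu, ?_⟩
        rw [← conj_conj (u * p) c, conj_eq (D.CZ hc)]
        exact (conj_Z_le hp).trans (conj_line_le' hP u)
    obtain ⟨u, hu, hyu⟩ := key x y h
    obtain ⟨v, hv, hxv⟩ := key y x h.symm
    obtain ⟨-, A, hA, hAv, hAy⟩ := ih v y hv.symm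
    obtain ⟨-, B, hB, hBx, hBu⟩ := ih x u hu
    have hAx := hxv.trans hAv
    have hAN := le_conj_N S D K hSC hJ hA hAx
    have hBN := le_conj_N S D K hSC hJ hB (hyu.trans hBu)
    have hcom : Com Z C F x y := by
      refine conj_W_le fun P hP c hc => comm_symm (conj_W_le fun P' hP' c' hc' => comm_symm ?_)
      refine noff_lines D.toSys hP hP' ?_ ?_
      · exact ((conj_line_le hP x hc).trans (hBx.trans hBN)).trans (norm_line K hP' y hc')
      · exact ((conj_line_le hP' y hc').trans (hAy.trans hAN)).trans (norm_line K hP x hc)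
    refine ⟨hcom, ?_⟩
    obtain ⟨A₁, hA₁, h2, h3⟩ := exists_W S D K hSC hJ hV (x := x) _ _ hA hAx (Nat.le_add_left _ _)
    exact ⟨A₁, hA₁, h2, (le_inf hAy (Com.symm hcom)).trans h3⟩

end

/-- **THEOREM J***, elements form: if there is a critical pair, some elementary abelian subgroup of
maximal order of `S` is not contained in `N`. -/
theorem exists_not_le {Z C N : Subgroup G} {F : Set (Subgroup G)} (S : Sylow 2 G)
    (D : Geo (S : Subgroup G) Z C F) (K : Ker Z C N F) (hSC : (S : Subgroup G) ≤ C)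
    (hV : ∀ P ∈ F, NoOver (S : Subgroup G) (V Z P)) {n : ℕ} {x y : G} (h : Crit Z C F n x y) :
    ∃ A : Subgroup G, MaxEA A ∧ A ≤ S ∧ ¬ A ≤ N := by
  by_contra hcon
  push Not at hcon
  exact h.ne (all_com S D K hSC hcon hV n x y h.path).1

/-- **THEOREM J***: `J(S)` is not contained in `N`. -/
theorem not_le {Z C N : Subgroup G} {F : Set (Subgroup G)} (S : Sylow 2 G)
    (D : Geo (S : Subgroup G) Z C F) (K : Ker Z C N F) (hSC : (S : Subgroup G) ≤ C)
    (hV : ∀ P ∈ F, NoOver (S : Subgroup G) (V Z P)) {n : ℕ} {x y : G} (h : Crit Z C F n x y) :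
    ¬ jj (S : Subgroup G) ≤ N := by
  obtain ⟨A, hA, hAS, hAN⟩ := exists_not_le S D K hSC hV h
  intro h1
  refine hAN (le_trans ?_ h1)
  rw [jj, PLocal.ThompsonJ.thompsonSubgroupOf_sylow_eq]
  refine le_sSup ⟨?_, hAS⟩
  exact ⟨PLocal.ThompsonJ.isElementaryAbelian_iff.2 ⟨fun a ha b hb =>
    (mem_centralizer_iff.1 (hA.comm ha) b hb).symm, hA.sq⟩, fun B hB => hA.max B
    ⟨fun a ha => mem_centralizer_iff.2 fun b hb => PLocal.ThompsonJ.isElementaryAbelian_comm hB hb ha, hB.2⟩⟩

end Cfsg.Agent.Omega.NoFF.ThmJ
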