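import Cfsg.Agent.Omega.NoFF.ThmJFam
import Cfsg.Agent.Omega.NoFF.LinesPlug
import Cfsg.Agent.ZN.Facts

/-!
# THEOREM J*: plug (helper560 #12949, helper765 #13136, helper663 #13190)

`C = C_G(Ω₁(Z(S)))`, `F ⊆ P*(S)` with `V_P ≤ O₂(C)` for `P ∈ F`, `K* = ker` the kernel of `C` on the lines on the
point `Z = Ω₁(Z(S))`; no member of `F` has an over-offender on `V_P` (`NoOver`).

* `not_jj_le` : `J(S) ≰ K*`; `not_jj_le_o2` : `J(S) ≰ O₂(C)`;
* `exists_par` : there is `P₂ ∈ P(S)`, `P₂ ≤ C`, `J(S) ≰ O₂(P₂)`, `P₂ ≰ K*`;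
* `threeS`, `threeL` : the two cases of `LinesPlug.alt`.
-/

set_option autoImplicit false

namespace Cfsg.Agent.Omega.NoFF.ThmJKer

open Subgroup Cfsg Cfsg.Agent.ZN Cfsg.Agent.Omega.MinPar
open Cfsg.Agent.Omega Cfsg.Agent.Omega.NoFF.Basic Cfsg.Agent.Omega.NoFF.Lines
open Cfsg.Agent.Omega.NoFF.ThmJFam Cfsg.Agent.Omega.NoFF.LinesPlug
open scoped Pointwise

variable {G : Type*} [Group G]

/-- no elementary abelian subgroup of `S` is an over-offender on `V` -/
def NoOver (S V : Subgroup G) : Prop :=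
  ∀ A : Subgroup G, A ≤ S → (∀ a ∈ A, a ^ 2 = 1) →
    Nat.card A * Nat.card (V ⊓ centralizer (A : Set G) : Subgroup G) ≤
      Nat.card V * Nat.card (A ⊓ centralizer (V : Set G) : Subgroup G)

/-- `K*`: the kernel of `C` on the set of lines on the point `Z` -/
def ker (Z C : Subgroup G) (F : Set (Subgroup G)) : Subgroup G :=
  C ⊓ ⨅ c : C, ⨅ P ∈ F, normalizer ((MulAut.conj (c : G) • V Z P : Subgroup G) : Set G)

variable {Z C : Subgroup G} {F : Set (Subgroup G)}

theorem mem_ker {x : G} : x ∈ ker Z C F ↔ x ∈ C ∧ ∀ c ∈ C, ∀ P ∈ F,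
    x ∈ normalizer ((MulAut.conj c • V Z P : Subgroup G) : Set G) := by
  simp only [ker, mem_inf, mem_iInf, Subtype.forall]

theorem ker_le : ker Z C F ≤ C := fun _ hx => (mem_ker.1 hx).1

theorem ker_le_line {P : Subgroup G} (hP : P ∈ F) : ker Z C F ≤ normalizer (V Z P : Set G) := by
  intro x hx
  have := (mem_ker.1 hx).2 1 C.one_mem P hP
  rwa [map_one, one_smul] at this

/-- a normal subgroup of `C` normalising `V_P`, `P ∈ F`, lies in `K*` -/
theorem le_ker {E : Subgroup G} (hEC : E ≤ C) (hE : ∀ c ∈ C, MulAut.conj c • E = E)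
    (h : ∀ P ∈ F, E ≤ normalizer (V Z P : Set G)) : E ≤ ker Z C F := by
  intro x hx
  refine mem_ker.2 ⟨hEC hx, fun c hc P hP => ?_⟩
  rw [Main.normalizer_conj]
  rw [← hE c hc] at hx
  exact conj_le_iff.2 (h P hP) hx

theorem conj_ker {c : G} (hc : c ∈ C) : MulAut.conj c • ker Z C F = ker Z C F := by
  have key : ∀ c ∈ C, ker Z C F ≤ MulAut.conj c • ker Z C F := by
    intro c hc x hx
    rw [mem_conj, mem_ker]
    obtain ⟨h1, h2⟩ := mem_ker.1 hx
    refine ⟨C.mul_mem (C.mul_mem (C.inv_mem hc) h1) hc, fun d hd P hP => ?_⟩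
    have h3 := h2 (c * d) (C.mul_mem hc hd) P hP
    rw [← conj_conj, Main.normalizer_conj, mem_conj] at h3
    exact h3
  apply le_antisymm _ (key c hc)
  have h1 := conj_le_iff (g := c) |>.2 (key c⁻¹ (C.inv_mem hc))
  rwa [conj_conj, mul_inv_cancel, map_one, one_smul] at h1

theorem C_le_normalizer_ker : C ≤ normalizer (ker Z C F : Set G) := by
  intro c hc
  rw [mem_normalizer_iff]
  intro y
  constructor
  · intro hy
    rw [← conj_ker hc, mem_conj]
    simpa [mul_assoc] using hy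
  · intro hy
    rw [← conj_ker hc, mem_conj] at hy
    simpa [mul_assoc] using hy

variable [Finite G]

/-- a maximal elementary abelian subgroup of `G` in `S` lies in `J(S)` -/
theorem mx_le_jj {S A : Subgroup G} (hA : Mx A) (hAS : A ≤ S) : A ≤ jj S := by
  have hE : IsElementaryAbelian 2 A := PLocal.ThompsonJ.isElementaryAbelian_iff.2
    ⟨fun x hx y hy => (mem_centralizer_iff.1 (hA.1.comm hy) x hx), fun x hx => hA.1 x hx⟩
  exact IsMaxIn.le_jj ⟨hAS, hE, fun B _ hB => hA.2 B fun b hb => (PLocal.ThompsonJ.isElementaryAbelian_iff.1 hB).2 b hb⟩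

section

variable (hG : IsCharacteristicTwoType G) (S : Sylow 2 G) (hS : (S : Subgroup G) ≠ ⊥)
include hG

omit [Finite G] in
omit hG in
theorem P_le_normalizer {P : Subgroup G} : P ≤ normalizer (V (zc (S : Subgroup G)) P : Set G) :=
  le_normalizer_zl _ _

/-- `S` normalises the `V_P`. -/
theorem o2_le_ker (hFP : F ⊆ PStar (S : Subgroup G)) (hS : (S : Subgroup G) ≠ ⊥) :
    o2 (CC (S : Subgroup G)) ≤ ker (zc (S : Subgroup G)) (CC (S : Subgroup G)) F := by
  refine le_ker (o2_le _) (fun c hc => conj_eq (le_normalizer_o2 _ hc)) fun P hP => ?_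
  exact ((isLoc_centralizer_zc S hS).o2_le S).trans ((hFP hP).isLoc.le.trans (P_le_normalizer S))

/-- **THEOREM J*** -/
theorem not_jj_le (D : Geo (S : Subgroup G) (zc (S : Subgroup G)) (CC (S : Subgroup G)) F) (hF : F.Nonempty)
    (hS : (S : Subgroup G) ≠ ⊥)
    (hloc : ∀ U : Subgroup G, IsPGroup 2 U → (∀ P ∈ F, P ≤ normalizer (U : Set G)) →
      CC (S : Subgroup G) ≤ normalizer (U : Set G) → U = ⊥)
    (bhs : ∀ P ∈ F, NoOver (S : Subgroup G) (zl (S : Subgroup G) P)) :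
    ¬ jj (S : Subgroup G) ≤ ker (zc (S : Subgroup G)) (CC (S : Subgroup G)) F := by
  intro hJ
  obtain ⟨A, hA, hAS, hAN⟩ := thmJ D hF (MinSimple.Basic.zc_ne_bot S.isPGroup' hS) hloc C_le_normalizer_ker
    (fun P hP => ker_le_line hP) bhs
  exact hAN ((mx_le_jj hA hAS).trans hJ)

/-- `J(S) ≰ O₂(C)` -/
theorem not_jj_le_o2 (hFP : F ⊆ PStar (S : Subgroup G))
    (D : Geo (S : Subgroup G) (zc (S : Subgroup G)) (CC (S : Subgroup G)) F) (hF : F.Nonempty)
    (hS : (S : Subgroup G) ≠ ⊥)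
    (hloc : ∀ U : Subgroup G, IsPGroup 2 U → (∀ P ∈ F, P ≤ normalizer (U : Set G)) →
      CC (S : Subgroup G) ≤ normalizer (U : Set G) → U = ⊥)
    (bhs : ∀ P ∈ F, NoOver (S : Subgroup G) (zl (S : Subgroup G) P)) :
    ¬ jj (S : Subgroup G) ≤ o2 (CC (S : Subgroup G)) :=
  fun h => not_jj_le hG S D hF hS hloc bhs (h.trans (o2_le_ker hG S hFP hS))

/-- Some `P₂ ∈ P(S)` in `C` moves a line on `Z` and has `J(S) ≰ O₂(P₂)`. -/
theorem exists_par (hFP : F ⊆ PStar (S : Subgroup G)) (hS : (S : Subgroup G) ≠ ⊥)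
    (hJ : ¬ jj (S : Subgroup G) ≤ ker (zc (S : Subgroup G)) (CC (S : Subgroup G)) F) :
    ∃ P₂ : Subgroup G, IsPar (S : Subgroup G) P₂ ∧ P₂ ≤ CC (S : Subgroup G) ∧
      ¬ jj (S : Subgroup G) ≤ o2 P₂ ∧ ¬ P₂ ≤ ker (zc (S : Subgroup G)) (CC (S : Subgroup G)) F := by
  by_contra hcon
  push Not at hcon
  set K := ker (zc (S : Subgroup G)) (CC (S : Subgroup G)) F with hK
  have hSC : (S : Subgroup G) ≤ CC (S : Subgroup G) := le_centralizer_zc _
  have hCK : CC (S : Subgroup G) ≤ normalizer (K : Set G) := C_le_normalizer_ker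
  set E := jj (S : Subgroup G) ⊔ K with hE
  have hsup : ∀ x, x ∈ normalizer (jj (S : Subgroup G) : Set G) → x ∈ normalizer (K : Set G) →
      x ∈ normalizer (E : Set G) := by
    intro x h1 h2
    have h3 : MulAut.conj x • E = E := by
      rw [hE, Subgroup.smul_sup, conj_eq h1, conj_eq h2]
    rw [mem_normalizer_iff]
    intro y
    constructor
    · intro hy
      rw [← h3, mem_conj]
      simpa [mul_assoc] using hy
    · intro hy
      rw [← h3, mem_conj] at hy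
      simpa [mul_assoc] using hy
  have hC : CC (S : Subgroup G) ≤ normalizer (E : Set G) := by
    refine (isLoc_centralizer_zc S hS).le_of_forall S ?_ fun P hP hPC => ?_
    · intro x hx
      exact hsup x (normalizer_le_normalizer_jj _ hx.2) (hCK hx.1)
    · by_cases h1 : jj (S : Subgroup G) ≤ o2 P
      · intro x hx
        refine hsup x ?_ (hCK (hPC hx))
        have h2 : jj (o2 P) = jj (S : Subgroup G) := jj_eq_of_le h1 (hP.isLoc.o2_le S)
        rw [← h2]
        exact normalizer_le_normalizer_jj _ (le_normalizer_o2 P hx)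
      · exact (hcon P hP hPC h1).trans (le_sup_right.trans le_normalizer)
  refine hJ ((le_sup_left : jj (S : Subgroup G) ≤ E).trans (le_ker ?_ (fun c hc => conj_eq (hC hc)) fun P hP => ?_))
  · exact sup_le ((jj_le _).trans hSC) ker_le
  · exact sup_le ((jj_le _).trans ((hFP hP).isLoc.le.trans (P_le_normalizer S))) (ker_le_line hP)

/-- case NO-3S -/
theorem threeS (hS : (S : Subgroup G) ≠ ⊥) {P : Subgroup G} {n : ℕ} {y : G} (h : NoThreeS (S : Subgroup G) P n y)
    (bhs : NoOver (S : Subgroup G) (zl (S : Subgroup G) P)) :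
    ¬ jj (S : Subgroup G) ≤ ker (zc (S : Subgroup G)) (CC (S : Subgroup G)) {P} ∧
      ¬ jj (S : Subgroup G) ≤ o2 (CC (S : Subgroup G)) ∧
    ∃ P₂ : Subgroup G, IsPar (S : Subgroup G) P₂ ∧ P₂ ≤ CC (S : Subgroup G) ∧ ¬ jj (S : Subgroup G) ≤ o2 P₂ ∧
      ¬ P₂ ≤ ker (zc (S : Subgroup G)) (CC (S : Subgroup G)) {P} := by
  have hFP : ({P} : Set (Subgroup G)) ⊆ PStar (S : Subgroup G) := Set.singleton_subset_iff.2 h.star
  have h1 := not_jj_le hG S h.geo (Set.singleton_nonempty P) hS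
    (fun U hU h1 h3 => h.nonLoc U hU (h1 P rfl) h3) (by rintro Q rfl; exact bhs)
  exact ⟨h1, fun h2 => h1 (h2.trans (o2_le_ker hG S hFP hS)), exists_par hG S hFP hS h1⟩

/-- case NO-3L -/
theorem threeL (hS : (S : Subgroup G) ≠ ⊥) (hM : ¬ OneMax (S : Subgroup G)) {n : ℕ} {y : G}
    (h : NoThreeL (S : Subgroup G) n y)
    (bhs : ∀ P, IsParS (S : Subgroup G) P → NoOver (S : Subgroup G) (zl (S : Subgroup G) P)) :
    ¬ jj (S : Subgroup G) ≤ ker (zc (S : Subgroup G)) (CC (S : Subgroup G)) (PStar (S : Subgroup G)) ∧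
      ¬ jj (S : Subgroup G) ≤ o2 (CC (S : Subgroup G)) ∧
    ∃ P₂ : Subgroup G, IsPar (S : Subgroup G) P₂ ∧ P₂ ≤ CC (S : Subgroup G) ∧ ¬ jj (S : Subgroup G) ≤ o2 P₂ ∧
      ¬ P₂ ≤ ker (zc (S : Subgroup G)) (CC (S : Subgroup G)) (PStar (S : Subgroup G)) := by
  have h1 := not_jj_le hG S h.geo (nonempty S hS hM) hS (eq_bot_of_le S hM) bhs
  exact ⟨h1, fun h2 => h1 (h2.trans (o2_le_ker hG S le_rfl hS)), exists_par hG S le_rfl hS h1⟩

end

end Cfsg.Agent.Omega.NoFF.ThmJKer
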