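import Cfsg.Agent.Omega.NoFF.ThmJ
import Cfsg.Agent.Omega.FrameNOFF
import Cfsg.Agent.ZN.Facts

/-!
# THEOREM J* in the frame of case III (NO-3S, NO-3L)

All `V_P ≤ O₂(C)`, `C = C_G(Z)`, no mutual pair, no `V_P`, `P ∈ P*(S)`, has an over-offender.

* `jj_not_le` : `J(S)` is not contained in any normal subgroup `N` of `C` normalising all `V_P`;
* `jj_not_le_o2` : `J(S) ≰ O₂(C)`;
* `exists_par` : some `P ∈ P(S)`, `P ≤ C`, has `J(S) ≰ O₂(P)`.
-/

set_option autoImplicit false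

namespace Cfsg.Agent.Omega.NoFF.ThmJPlug

open Subgroup Cfsg Cfsg.Agent.ZN Cfsg.Agent.Omega.MinPar Cfsg.Agent.Omega.Frame
open Cfsg.Agent.Omega.FrameNOFF Cfsg.Agent.Omega.NoFF.ThmJ
open scoped Pointwise

universe u

variable {G : Type u} [Group G] [Finite G]

/-- The hypotheses of case NO-3' together with "no over-offender". -/
structure Hyp (S : Sylow 2 G) : Prop where
  ctx : Ctx G
  full : Full (S : Subgroup G)
  noff : ¬ FF (S : Subgroup G)
  low : ∀ P : Subgroup G, IsParS (S : Subgroup G) P →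
      zl (S : Subgroup G) P ≤ o2 (CZ (S : Subgroup G))
  noOver : ∀ P : Subgroup G, IsParS (S : Subgroup G) P → NoOver (S : Subgroup G) (zl (S : Subgroup G) P)

variable {S : Sylow 2 G}

/-- **THEOREM J*** -/
theorem jj_not_le (h : Hyp S) {N : Subgroup G} (hN : N ≤ CZ (S : Subgroup G))
    (hN' : CZ (S : Subgroup G) ≤ normalizer (N : Set G))
    (hl : ∀ P : Subgroup G, IsParS (S : Subgroup G) P → N ≤ normalizer (zl (S : Subgroup G) P : Set G)) :
    ¬ jj (S : Subgroup G) ≤ N := by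
  obtain ⟨n, -, y, hy⟩ := exists_crit h.ctx S h.full h.noff h.low
  exact ThmJ.not_le S (geo h.ctx.char2 S h.noff (h.ctx.sylow_ne_bot S) h.low)
    ⟨hN, hN', fun P hP => hl P hP⟩ (FrameNOFF.le_CZ S) (fun P hP => h.noOver P hP) hy

/-- `J(S) ≰ O₂(C)`. -/
theorem jj_not_le_o2 (h : Hyp S) : ¬ jj (S : Subgroup G) ≤ o2 (CZ (S : Subgroup G)) := by
  refine jj_not_le h (ZN.o2_le _) (ZN.le_normalizer_o2 _) fun P hP => ?_
  have h1 : o2 (CZ (S : Subgroup G)) ≤ (S : Subgroup G) :=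
    (isLoc_centralizer_zc S (h.ctx.sylow_ne_bot S)).o2_le S
  exact (h1.trans hP.le).trans (le_normalizer_zl _ _)

/-- Some `P ∈ P(S)`, `P ≤ C`, has `J(S) ≰ O₂(P)`. -/
theorem exists_par (h : Hyp S) : ∃ P : Subgroup G, IsPar (S : Subgroup G) P ∧
    P ≤ CZ (S : Subgroup G) ∧ ¬ jj (S : Subgroup G) ≤ o2 P := by
  by_contra hcon
  push Not at hcon
  have hS0 := h.ctx.sylow_ne_bot S
  have hL := isLoc_centralizer_zc S hS0
  have h1 : CZ (S : Subgroup G) ≤ normalizer (jj (S : Subgroup G) : Set G) := by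
    refine hL.le_of_forall S (inf_le_right.trans (ZN.normalizer_le_normalizer_jj _)) ?_
    intro P hP hPC
    have h2 := hcon P hP hPC
    have h3 : jj (o2 P) = jj (S : Subgroup G) := ZN.jj_eq_of_le h2 (hP.isLoc.o2_le S)
    rw [← h3]
    exact (ZN.le_normalizer_o2 P).trans (ZN.normalizer_le_normalizer_jj _)
  refine jj_not_le_o2 h (ZN.le_o2 ?_ ?_ h1)
  · exact (ZN.jj_le _).trans (FrameNOFF.le_CZ S)
  · exact S.isPGroup'.to_le (ZN.jj_le _)

end Cfsg.Agent.Omega.NoFF.ThmJPlug
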